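import Groth.Agent.Misc1.Azumaya.Basic
/-! # Automorphisms of `End_R M` (free, local base) and of Azumaya algebras over local rings are inner -/

universe u v

open scoped TensorProduct

namespace Groth.Azum

variable {R : Type u} [CommRing R] [IsLocalRing R] {M : Type v} [AddCommGroup M] [Module R M]
  [Module.Free R M] [Module.Finite R M]

theorem exists_isUnit_apply (θ : Module.End R M ≃ₐ[R] Module.End R M) {f : Module.End R M}
    (hf : ∃ (φ : M →ₗ[R] R) (w : M), IsUnit (φ (f w))) :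
    ∃ (φ : M →ₗ[R] R) (w : M), IsUnit (φ (θ f w)) := by
  classical
  let b := Module.Free.chooseBasis R M
  by_contra hcon
  push Not at hcon
  have hexp : ∀ g : Module.End R M, g = ∑ j, ∑ i, b.repr (g (b j)) i • (b.coord j).smulRight (b i) := by
    intro g
    refine b.ext fun l => ?_
    simp [Finsupp.single_apply, b.sum_repr]
  have hmem : f ∈ (IsLocalRing.maximalIdeal R • ⊤ : Submodule R (Module.End R M)) := by
    have hθ : θ f ∈ (IsLocalRing.maximalIdeal R • ⊤ : Submodule R (Module.End R M)) := by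
      rw [hexp (θ f)]
      exact Submodule.sum_mem _ fun j _ => Submodule.sum_mem _ fun i _ =>
        Submodule.smul_mem_smul ((IsLocalRing.mem_maximalIdeal _).2 (hcon (b.coord i) (b j))) trivial
    have h := Submodule.mem_map_of_mem (f := θ.symm.toLinearMap) hθ
    rw [Submodule.map_smul''] at h
    have : θ.symm.toLinearMap (θ f) = f := θ.symm_apply_apply f
    rw [this] at h
    exact Submodule.smul_mono le_rfl le_top h
  obtain ⟨φ, w, hu⟩ := hf
  refine (IsLocalRing.mem_maximalIdeal _).1 ?_ hu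
  have h := Submodule.mem_map_of_mem (f := φ ∘ₗ (LinearMap.applyₗ w : Module.End R M →ₗ[R] M)) hmem
  rw [Submodule.map_smul''] at h
  exact Submodule.smul_le.2 (fun r hr x _ => Ideal.mul_mem_right x _ hr) h

theorem exists_equiv_conj [Nontrivial M] (θ : Module.End R M ≃ₐ[R] Module.End R M) :
    ∃ g : M ≃ₗ[R] M, ∀ (a : Module.End R M) (x : M), g (a x) = θ a (g x) := by
  classical
  let b := Module.Free.chooseBasis R M
  obtain ⟨i₀⟩ : Nonempty (Module.Free.ChooseBasisIndex R M) := b.index_nonempty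
  let e₀ := b i₀
  let φ₀ := b.coord i₀
  have h₀ : φ₀ e₀ = 1 := by simp [φ₀, e₀]
  let F : M →ₗ[R] Module.End R M := LinearMap.smulRightₗ φ₀
  have hF : ∀ x y, F x y = φ₀ y • x := fun x y => rfl
  obtain ⟨ψ, w, hw⟩ := exists_isUnit_apply θ (f := F e₀) ⟨φ₀, e₀, by simp [hF, h₀]⟩
  let g : M →ₗ[R] M := (LinearMap.applyₗ w : Module.End R M →ₗ[R] M) ∘ₗ θ.toLinearMap ∘ₗ F
  have hg : ∀ x, g x = θ (F x) w := fun x => rfl
  have hFa : ∀ (a : Module.End R M) x, a * F x = F (a x) := fun a x =>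
    LinearMap.ext fun y => by simp [Module.End.mul_apply, hF]
  have geq : ∀ (a : Module.End R M) x, g (a x) = θ a (g x) := fun a x => by
    rw [hg, hg, ← hFa, map_mul]; rfl
  obtain ⟨ψ', w', hw'⟩ := exists_isUnit_apply θ.symm (f := F (g e₀)) ⟨ψ, e₀, by
    rw [hF, h₀, one_smul, hg]; exact hw⟩
  let h : M →ₗ[R] M := (LinearMap.applyₗ w' : Module.End R M →ₗ[R] M) ∘ₗ θ.symm.toLinearMap ∘ₗ F
  have hh : ∀ x, h x = θ.symm (F x) w' := fun x => rfl
  have heq : ∀ (a : Module.End R M) x, h (θ a x) = a (h x) := fun a x => by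
    rw [hh, hh, ← hFa, map_mul, θ.symm_apply_apply]; rfl
  have scalar : ∀ T : M →ₗ[R] M, (∀ (a : Module.End R M) x, T (a x) = a (T x)) →
      ∀ x, T x = φ₀ (T e₀) • x := fun T hT x => by
    calc T x = T (F x e₀) := by rw [hF, h₀, one_smul]
      _ = F x (T e₀) := hT _ _
      _ = φ₀ (T e₀) • x := hF _ _
  have hhg := scalar (h ∘ₗ g) fun a x => by simp only [LinearMap.comp_apply, geq, heq]
  have hgh := scalar (g ∘ₗ h) fun a x => by
    simp only [LinearMap.comp_apply]
    conv_lhs => rw [← θ.apply_symm_apply a]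
    rw [heq, geq, θ.apply_symm_apply]
  simp only [LinearMap.comp_apply] at hhg hgh
  set c := φ₀ (h (g e₀)) with hc
  set c' := φ₀ (g (h e₀)) with hc'
  have hcu : IsUnit c := by
    have : ψ' (h (g e₀)) = c * ψ' e₀ := by rw [hhg, map_smul, smul_eq_mul]
    rw [← hh, this] at hw'
    exact isUnit_of_mul_isUnit_left hw'
  have hcc : c' = c := by
    have h1 : c' • g e₀ = c • g e₀ := by rw [← hgh, hhg, map_smul]
    have h2 := congrArg ψ h1
    rw [map_smul, map_smul, smul_eq_mul, smul_eq_mul, hg] at h2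
    exact hw.mul_left_injective h2
  refine ⟨LinearEquiv.ofBijective g ⟨?_, ?_⟩, geq⟩
  · intro x y hxy
    have := congrArg h hxy
    rw [hhg, hhg] at this
    exact hcu.smul_left_cancel.1 this
  · intro x
    obtain ⟨d, hd⟩ := hcu
    exact ⟨((d⁻¹ : Rˣ) : R) • h x, by rw [map_smul, hgh, hcc, smul_smul, ← hd, Units.inv_mul, one_smul]⟩

theorem aut_inner (A : Type v) [Ring A] [Algebra R A] [IsAzumaya R A] (u : A ≃ₐ[R] A) :
    ∃ a : Aˣ, ∀ x : A, u x = (a : A) * x * (a⁻¹ : Aˣ) := by
  have : Module.Free R A := Module.free_of_flat_of_isLocalRing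
  have : Nontrivial A := (FaithfulSMul.algebraMap_injective R A).nontrivial
  let e := AlgEquiv.ofBijective (AlgHom.mulLeftRight R A) (IsAzumaya.AlgHom.mulLeftRight_bij R A)
  let θ := e.symm.trans ((Algebra.TensorProduct.congr u AlgEquiv.refl).trans e)
  obtain ⟨g, hg⟩ := exists_equiv_conj θ
  have hθ : ∀ a b : A, θ (e (a ⊗ₜ MulOpposite.op b)) = e (u a ⊗ₜ MulOpposite.op b) := fun a b => by
    simp [θ]
  have key : ∀ a b x : A, g (a * x * b) = u a * g x * b := fun a b x => by
    have := hg (e (a ⊗ₜ MulOpposite.op b)) x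
    rw [hθ] at this
    simpa [e] using this
  have hr : ∀ b, g b = g 1 * b := fun b => by simpa using key 1 b 1
  have hl : ∀ a, g 1 * a = u a * g 1 := fun a => by rw [← hr]; simpa using key a 1 1
  have h1 : g 1 * g.symm 1 = 1 := by rw [← hr, LinearEquiv.apply_symm_apply]
  have h2 : g.symm 1 * g 1 = 1 := g.injective (by rw [hr, ← mul_assoc, h1, one_mul])
  refine ⟨⟨g 1, g.symm 1, h1, h2⟩, fun x => ?_⟩
  change u x = g 1 * x * g.symm 1
  rw [hl, mul_assoc, h1, mul_one]

end Groth.Azum
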