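import Groth.Agent.CSA.Basic
import Mathlib.Algebra.Azumaya.Basic
import Mathlib.Algebra.Azumaya.Matrix
import Mathlib.Algebra.Module.FinitePresentation
import Mathlib.RingTheory.LocalRing.Module
import Mathlib.RingTheory.LocalRing.ResidueField.Ideal
import Mathlib.RingTheory.Flat.FaithfullyFlat.Descent
import Mathlib.RingTheory.Flat.EquationalCriterion
/-! # Azumaya algebras: base change, fibre criterion, descent

* `Groth.Azum.tensorProduct_bijective`: `S ⊗ Hom(M,N) ≅ Hom_S(S⊗M, S⊗N)` for `M` f.g. projective, any `S`.
* `Groth.Azum.bijective_lTensor_mulLeftRight_iff`: base change of `AlgHom.mulLeftRight`.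
* `Groth.Azum.baseChange`: Azumaya algebras are stable under base change.
* `Groth.Azum.bijective_iff_fibres`: bijectivity between f.g. projectives is checked on maximal fibres.
* `Groth.Azum.isAzumaya_iff_field`: over a field Azumaya = finite central simple.
-/

universe u v w w'

open scoped TensorProduct

namespace Groth.Azum

variable (R : Type u) [CommRing R]

section Hom

variable (S : Type w) [CommRing S] [Algebra R S]
  (M : Type v) [AddCommGroup M] [Module R M] (N : Type w') [AddCommGroup N] [Module R N]

theorem tensorProduct_bijective_pi (ι : Type) [Finite ι] :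
    Function.Bijective (LinearMap.tensorProduct R S (ι → R) N) := by
  have h := Module.isBaseChange_map_of_finite_free (R := R) N S ι
  have e : ⇑(LinearMap.tensorProduct R S (ι → R) N) = ⇑h.equiv := by
    funext x
    induction x using TensorProduct.induction_on with
    | zero => simp
    | tmul s f =>
      rw [IsBaseChange.equiv_tmul]
      simp [LinearMap.tensorProduct]
    | add x y hx hy => simp only [map_add, hx, hy]
  rw [e]; exact h.equiv.bijective

theorem tensorProduct_bijective [Module.Finite R M] [Module.Projective R M] :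
    Function.Bijective (LinearMap.tensorProduct R S M N) := by
  obtain ⟨n, p, i, hp, -, hpi⟩ := Module.Finite.exists_comp_eq_id_of_projective R M
  have hn := tensorProduct_bijective_pi R S N (Fin n)
  have key : ∀ x, LinearMap.tensorProduct R S (Fin n → R) N ((p.lcomp R N).baseChange S x)
      = LinearMap.tensorProduct R S M N x ∘ₗ p.baseChange S := by
    intro x
    induction x using TensorProduct.induction_on with
    | zero => simp
    | tmul s f =>
      ext z
      simp [LinearMap.tensorProduct]
    | add x y hx hy => simp only [map_add, hx, hy, LinearMap.add_comp]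
  have key' : ∀ y, LinearMap.tensorProduct R S M N ((i.lcomp R N).baseChange S y)
      = LinearMap.tensorProduct R S (Fin n → R) N y ∘ₗ i.baseChange S := by
    intro y
    induction y using TensorProduct.induction_on with
    | zero => simp
    | tmul s f =>
      ext z
      simp [LinearMap.tensorProduct]
    | add x y hx hy => simp only [map_add, hx, hy, LinearMap.add_comp]
  have hid : (i.lcomp R N).baseChange S ∘ₗ (p.lcomp R N).baseChange S = LinearMap.id := by
    rw [← LinearMap.baseChange_comp, ← LinearMap.baseChange_id]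
    congr 1
    ext f z
    simpa using congrArg f (LinearMap.congr_fun hpi z)
  refine ⟨(injective_iff_map_eq_zero _).2 fun x hx => ?_, fun g => ?_⟩
  · have h1 : (p.lcomp R N).baseChange S x = 0 := by
      apply hn.1
      rw [key, hx, map_zero, LinearMap.zero_comp]
    simpa [h1] using (LinearMap.congr_fun hid x).symm
  · obtain ⟨y, hy⟩ := hn.2 (g ∘ₗ p.baseChange S)
    refine ⟨(i.lcomp R N).baseChange S y, ?_⟩
    rw [key', hy, LinearMap.comp_assoc, ← LinearMap.baseChange_comp, hpi, LinearMap.baseChange_id,
      LinearMap.comp_id]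

end Hom

section BaseChange

variable (A : Type v) [Ring A] [Algebra R A] (S : Type w) [CommRing S] [Algebra R S]

/-- `S ⊗ (A ⊗ Aᵒᵖ) ≅ (S ⊗ A) ⊗ (S ⊗ A)ᵒᵖ`. -/
noncomputable def doubleEquiv : S ⊗[R] (A ⊗[R] Aᵐᵒᵖ) ≃ₗ[S] (S ⊗[R] A) ⊗[S] (S ⊗[R] A)ᵐᵒᵖ :=
  TensorProduct.AlgebraTensorModule.distribBaseChange R S A Aᵐᵒᵖ ≪≫ₗ
    TensorProduct.congr (LinearEquiv.refl S _)
      (((MulOpposite.opLinearEquiv R (M := A)).symm.baseChange R S) ≪≫ₗ MulOpposite.opLinearEquiv S)

theorem mulLeftRight_doubleEquiv (x : S ⊗[R] (A ⊗[R] Aᵐᵒᵖ)) :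
    AlgHom.mulLeftRight S (S ⊗[R] A) (doubleEquiv R A S x)
      = LinearMap.tensorProduct R S A A ((AlgHom.mulLeftRight R A).toLinearMap.baseChange S x) := by
  induction x using TensorProduct.induction_on with
  | zero => simp
  | tmul s y =>
    induction y using TensorProduct.induction_on with
    | zero => simp
    | tmul a b =>
      ext z
      simp [doubleEquiv, LinearMap.tensorProduct, Algebra.TensorProduct.tmul_mul_tmul,
        TensorProduct.smul_tmul']
    | add x y hx hy => simp only [TensorProduct.tmul_add, map_add, hx, hy]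
  | add x y hx hy => simp only [map_add, hx, hy]

theorem bijective_lTensor_mulLeftRight_iff [Module.Finite R A] [Module.Projective R A] :
    Function.Bijective ((AlgHom.mulLeftRight R A).toLinearMap.lTensor S) ↔
      Function.Bijective (AlgHom.mulLeftRight S (S ⊗[R] A)) := by
  have e : ⇑(AlgHom.mulLeftRight S (S ⊗[R] A)) ∘ ⇑(doubleEquiv R A S) =
      ⇑(LinearMap.tensorProduct R S A A) ∘ ⇑((AlgHom.mulLeftRight R A).toLinearMap.baseChange S) :=
    funext (mulLeftRight_doubleEquiv R A S)
  rw [← Function.Bijective.of_comp_iff (AlgHom.mulLeftRight S (S ⊗[R] A)) (doubleEquiv R A S).bijective, e,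
    Function.Bijective.of_comp_iff' (tensorProduct_bijective R S A A),
    LinearMap.baseChange_eq_ltensor]

theorem faithfulSMul_of_injective_one (h : ∀ r : R, r • (1 : A) = 0 → r = 0) : FaithfulSMul R A := by
  rw [faithfulSMul_iff_algebraMap_injective, injective_iff_map_eq_zero]
  exact fun r hr => h r (by rw [← Algebra.algebraMap_eq_smul_one, hr])

/-- The trace ideal of `A` and an element near `1` killing `A`. -/
theorem exists_smul_eq_zero_trace [Module.Finite R A] [Module.Projective R A] :
    ∃ e : R, (∀ a : A, e • a = 0) ∧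
      e - 1 ∈ Submodule.span R {c : R | ∃ (φ : A →ₗ[R] R) (a : A), φ a = c} := by
  obtain ⟨n, p, i, -, -, hpi⟩ := Module.Finite.exists_comp_eq_id_of_projective R A
  let τ : Ideal R := Submodule.span R {c : R | ∃ (φ : A →ₗ[R] R) (a : A), φ a = c}
  have hle : (⊤ : Submodule R A) ≤ τ • ⊤ := by
    intro a _
    have ha : a = p (i a) := (LinearMap.congr_fun hpi a).symm
    rw [ha, LinearMap.pi_apply_eq_sum_univ p]
    exact Submodule.sum_mem _ fun j _ => Submodule.smul_mem_smul
      (Submodule.subset_span ⟨(LinearMap.proj j).comp i, a, rfl⟩) trivial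
  obtain ⟨e, he, he'⟩ := Submodule.exists_sub_one_mem_and_smul_eq_zero_of_fg_of_le_smul τ ⊤
    Module.Finite.fg_top hle
  exact ⟨e, fun a => he' a trivial, he⟩

variable {A}

theorem faithfulSMul_of_fibres [Module.Finite R A] [Module.Projective R A]
    (h : ∀ (p : Ideal R) [p.IsMaximal], Nontrivial (p.ResidueField ⊗[R] A)) : FaithfulSMul R A := by
  obtain ⟨e, he, heτ⟩ := exists_smul_eq_zero_trace R A
  set τ : Ideal R := Submodule.span R {c : R | ∃ (φ : A →ₗ[R] R) (a : A), φ a = c}
  have hτ : τ = ⊤ := by
    by_contra hne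
    obtain ⟨P, hP, hle⟩ := Ideal.exists_le_maximal τ hne
    have hu : algebraMap R P.ResidueField e ≠ 0 := by
      rw [Ne, Ideal.algebraMap_residueField_eq_zero]
      exact fun hm => hP.ne_top ((Ideal.eq_top_iff_one _).2 (by simpa using P.sub_mem hm (hle heτ)))
    have hz : ∀ z : P.ResidueField ⊗[R] A, algebraMap R P.ResidueField e • z = 0 := by
      intro z
      rw [IsScalarTower.algebraMap_smul]
      induction z using TensorProduct.induction_on with
      | zero => simp
      | tmul s a => rw [← TensorProduct.tmul_smul, he, TensorProduct.tmul_zero]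
      | add x y hx hy => simp [smul_add, hx, hy]
    obtain ⟨z, hz0⟩ := @exists_ne (P.ResidueField ⊗[R] A) (h P) 0
    exact hz0 ((smul_eq_zero.1 (hz z)).resolve_left hu)
  refine faithfulSMul_of_injective_one R A fun r hr => ?_
  have hle : τ ≤ LinearMap.ker (LinearMap.mulLeft R r) := by
    refine Submodule.span_le.2 ?_
    rintro _ ⟨φ, a, rfl⟩
    have : r • a = 0 := by rw [← one_mul a, ← smul_mul_assoc, hr, zero_mul]
    simp [← smul_eq_mul, ← map_smul, this]
  simpa using hle (hτ ▸ Submodule.mem_top : (1 : R) ∈ τ)

variable (A) in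
theorem exists_dual_one [Module.Finite R A] [Module.Projective R A] [FaithfulSMul R A] :
    ∃ φ : A →ₗ[R] R, φ 1 = 1 := by
  obtain ⟨e, he, heτ⟩ := exists_smul_eq_zero_trace R A
  have : e = 0 := FaithfulSMul.eq_of_smul_eq_smul (α := A) fun a => by rw [he a, zero_smul]
  rw [this, zero_sub] at heτ
  have h1 : (1 : R) ∈ Submodule.span R {c : R | ∃ (φ : A →ₗ[R] R) (a : A), φ a = c} := by
    simpa using neg_mem heτ
  suffices ∀ c ∈ Submodule.span R {c : R | ∃ (φ : A →ₗ[R] R) (a : A), φ a = c},
      ∃ φ : A →ₗ[R] R, φ 1 = c from this 1 h1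
  intro c hc
  induction hc using Submodule.span_induction with
  | mem x hx => obtain ⟨φ, a, rfl⟩ := hx; exact ⟨φ ∘ₗ LinearMap.mulLeft R a, by simp⟩
  | zero => exact ⟨0, rfl⟩
  | add x y _ _ hx hy => obtain ⟨f, hf⟩ := hx; obtain ⟨g, hg⟩ := hy; exact ⟨f + g, by simp [hf, hg]⟩
  | smul r x _ hx => obtain ⟨f, hf⟩ := hx; exact ⟨r • f, by simp [hf]⟩

end BaseChange

section Criterion

variable {M : Type v} [AddCommGroup M] [Module R M] [Module.Finite R M]
  {N : Type w} [AddCommGroup N] [Module R N] [Module.Finite R N] [Module.Projective R N]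

omit [Module.Finite R M] in
theorem subsingleton_of_fibres {C : Type w'} [AddCommGroup C] [Module R C] [Module.Finite R C]
    (h : ∀ (p : Ideal R) [p.IsMaximal], Subsingleton (p.ResidueField ⊗[R] C)) : Subsingleton C := by
  rw [← Module.support_eq_empty_iff (R := R), Set.eq_empty_iff_forall_notMem]
  intro q hq
  obtain ⟨m, hm, hle⟩ := Ideal.exists_le_maximal q.asIdeal q.isPrime.ne_top
  exact not_nontrivial_iff_subsingleton.2 (h m)
    ((Module.mem_support_iff_nontrivial_residueField_tensorProduct ⟨m, hm.isPrime⟩).1
      (Module.mem_support_mono (p := q) (q := ⟨m, hm.isPrime⟩) hle hq))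

theorem bijective_iff_fibres (f : M →ₗ[R] N)
    (h : ∀ (p : Ideal R) [p.IsMaximal], Function.Bijective (f.lTensor p.ResidueField)) :
    Function.Bijective f := by
  have hsurj : Function.Surjective f := by
    have : Subsingleton (N ⧸ LinearMap.range f) := by
      refine subsingleton_of_fibres R fun p _ => ?_
      refine ⟨fun x y => ?_⟩
      have hz : ∀ z : p.ResidueField ⊗[R] (N ⧸ LinearMap.range f), z = 0 := by
        intro z
        obtain ⟨w, rfl⟩ := LinearMap.lTensor_surjective p.ResidueField (Submodule.mkQ_surjective _) z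
        obtain ⟨m, rfl⟩ := (h p).2 w
        rw [← LinearMap.comp_apply, ← LinearMap.lTensor_comp]
        simp [LinearMap.range_mkQ_comp]
      rw [hz x, hz y]
    rw [← LinearMap.range_eq_top]
    exact Submodule.Quotient.subsingleton_iff.1 this
  obtain ⟨s, hs⟩ := Module.projective_lifting_property f LinearMap.id hsurj
  refine ⟨?_, hsurj⟩
  let q : M →ₗ[R] M := LinearMap.id - s ∘ₗ f
  have hfq : f ∘ₗ q = 0 := by
    simp [q, LinearMap.comp_sub, ← LinearMap.comp_assoc, hs]
  have : Module.Finite R (LinearMap.range q) := Module.Finite.range q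
  have : Subsingleton (LinearMap.range q) := by
    refine subsingleton_of_fibres R fun p _ => ?_
    have h0 : (LinearMap.range q).subtype.lTensor p.ResidueField = 0 := by
      apply TensorProduct.AlgebraTensorModule.curry_injective
      refine LinearMap.ext fun c => LinearMap.ext fun z => ?_
      apply (h p).1
      obtain ⟨_, ⟨m, rfl⟩⟩ := z
      simp only [TensorProduct.AlgebraTensorModule.curry_apply, TensorProduct.curry_apply,
        LinearMap.coe_restrictScalars, LinearMap.lTensor_tmul, Submodule.coe_subtype, LinearMap.zero_apply,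
        map_zero]
      rw [show f (q m) = 0 from LinearMap.congr_fun hfq m, TensorProduct.tmul_zero]
    have h1 : (q.rangeRestrict ∘ₗ (LinearMap.range q).subtype) = LinearMap.id := by
      ext ⟨_, ⟨m, rfl⟩⟩
      have hf0 : f (q m) = 0 := LinearMap.congr_fun hfq m
      change q (q m) = q m
      change q m - s (f (q m)) = q m
      rw [hf0, map_zero, sub_zero]
    refine ⟨fun x y => ?_⟩
    have hz : ∀ z : p.ResidueField ⊗[R] LinearMap.range q, z = 0 := fun z => by
      rw [← LinearMap.id_apply (R := R) z, ← LinearMap.lTensor_id, ← h1, LinearMap.lTensor_comp,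
        LinearMap.comp_apply, h0, LinearMap.zero_apply, map_zero]
    rw [hz x, hz y]
  refine (injective_iff_map_eq_zero f).2 fun m hm => ?_
  have h2 := congrArg Subtype.val (Subsingleton.elim (q.rangeRestrict m) 0)
  simpa [q, hm] using h2

end Criterion

section Field

theorem isAzumaya_iff_field (K : Type u) [Field K] (A : Type v) [Ring A] [Algebra K A]
    [Module.Finite K A] : IsAzumaya K A ↔ Algebra.IsCentral K A ∧ IsSimpleRing A := by
  refine ⟨fun hA => ⟨inferInstance, ?_⟩, fun ⟨_, _⟩ => CSA.isAzumaya K A⟩
  have : Nontrivial A := by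
    by_contra hA'
    rw [not_nontrivial_iff_subsingleton] at hA'
    exact one_ne_zero (α := K) (FaithfulSMul.eq_of_smul_eq_smul (α := A) fun a => Subsingleton.elim _ _)
  refine IsSimpleRing.of_eq_bot_or_eq_top fun I => or_iff_not_imp_left.2 fun hI => ?_
  obtain ⟨x, hxI, hx⟩ : ∃ x ∈ I, x ≠ 0 := by
    by_contra hcon
    push Not at hcon
    exact hI (eq_bot_iff.2 fun x hx => (TwoSidedIdeal.mem_bot _).2 (hcon x hx))
  refine eq_top_iff.2 fun y _ => ?_
  obtain ⟨g, hg⟩ := LinearMap.exists_leftInverse_of_injective (LinearMap.toSpanSingleton K A x)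
    (LinearMap.ker_eq_bot.2 (smul_left_injective K hx))
  obtain ⟨t, ht⟩ := (IsAzumaya.AlgHom.mulLeftRight_bij K A).2 (LinearMap.toSpanSingleton K A y ∘ₗ g)
  have hgx : g x = 1 := by simpa using LinearMap.congr_fun hg 1
  have hy : AlgHom.mulLeftRight K A t x = y := by
    rw [ht, LinearMap.comp_apply, hgx]; simp
  rw [← hy]
  clear hy hgx ht hg g
  induction t using TensorProduct.induction_on with
  | zero => simp
  | tmul a b =>
    rw [AlgHom.mulLeftRight_apply]
    exact I.mul_mem_right _ _ (I.mul_mem_left _ _ hxI)
  | add t t' ht ht' =>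
    rw [map_add, LinearMap.add_apply]
    exact I.add_mem ht ht'

end Field

section Main

theorem finite_projective_end (M : Type v) [AddCommGroup M] [Module R M] [Module.Finite R M]
    [Module.Projective R M] :
    Module.Finite R (Module.End R M) ∧ Module.Projective R (Module.End R M) := by
  obtain ⟨n, p, i, -, -, hpi⟩ := Module.Finite.exists_comp_eq_id_of_projective R M
  let up : Module.End R M →ₗ[R] ((Fin n → R) →ₗ[R] (Fin n → R)) :=
    (LinearMap.llcomp R (Fin n → R) M (Fin n → R) i) ∘ₗ p.lcomp R M
  let down : ((Fin n → R) →ₗ[R] (Fin n → R)) →ₗ[R] Module.End R M :=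
    (LinearMap.llcomp R M (Fin n → R) M p) ∘ₗ i.lcomp R (Fin n → R)
  have hdu : down ∘ₗ up = LinearMap.id := by
    refine LinearMap.ext fun f => LinearMap.ext fun z => ?_
    have h := fun w => LinearMap.congr_fun hpi w
    simp only [LinearMap.comp_apply, LinearMap.id_apply] at h
    simp [up, down, h]
  exact ⟨Module.Finite.of_surjective down fun f => ⟨up f, LinearMap.congr_fun hdu f⟩,
    Module.Projective.of_split up down hdu⟩

variable (A : Type v) [Ring A] [Algebra R A]

theorem bij_of_fibres [Module.Finite R A] [Module.Projective R A]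
    (h : ∀ (p : Ideal R) [p.IsMaximal], IsAzumaya p.ResidueField (p.ResidueField ⊗[R] A)) :
    IsAzumaya R A where
  __ := faithfulSMul_of_fibres R fun p _ => by
    have := h p
    by_contra hA'
    rw [not_nontrivial_iff_subsingleton] at hA'
    exact one_ne_zero (α := p.ResidueField) (FaithfulSMul.eq_of_smul_eq_smul
      (α := p.ResidueField ⊗[R] A) fun a => Subsingleton.elim _ _)
  bij := by
    obtain ⟨h₁, h₂⟩ := finite_projective_end R A
    refine bijective_iff_fibres R (AlgHom.mulLeftRight R A).toLinearMap fun p _ => ?_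
    exact (bijective_lTensor_mulLeftRight_iff R A p.ResidueField).2 (h p).bij

theorem baseChange [IsAzumaya R A] (S : Type w) [CommRing S] [Algebra R S] :
    IsAzumaya S (S ⊗[R] A) where
  __ := faithfulSMul_of_injective_one S (S ⊗[R] A) fun s hs => by
    -- `R → A` is split injective
    obtain ⟨φ, hφ⟩ := exists_dual_one R A
    have := congrArg ((TensorProduct.AlgebraTensorModule.rid R S S).toLinearMap ∘ₗ φ.baseChange S) hs
    simpa [Algebra.TensorProduct.one_def, hφ] using this
  bij := (bijective_lTensor_mulLeftRight_iff R A S).1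
    (LinearEquiv.ofBijective (AlgHom.mulLeftRight R A).toLinearMap
      (IsAzumaya.AlgHom.mulLeftRight_bij R A) |>.lTensor S).bijective

/-- Being Azumaya descends along faithfully flat ring maps. -/
theorem of_faithfullyFlat [Module.FinitePresentation R A] (S : Type w) [CommRing S] [Algebra R S]
    [Module.FaithfullyFlat R S] [IsAzumaya S (S ⊗[R] A)] : IsAzumaya R A :=
  have : Module.Flat R A := Module.Flat.of_flat_tensorProduct R A S
  have : Module.Projective R A := Module.Flat.projective_of_finitePresentation
  { __ := faithfulSMul_of_injective_one R A fun r hr => by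
      have h0 : algebraMap R S r • (1 : S ⊗[R] A) = 0 := by
        rw [IsScalarTower.algebraMap_smul, Algebra.TensorProduct.one_def, ← TensorProduct.tmul_smul, hr,
          TensorProduct.tmul_zero]
      have h1 : algebraMap R S r = 0 := FaithfulSMul.eq_of_smul_eq_smul (α := S ⊗[R] A) fun a => by
        rw [zero_smul, ← one_mul a, ← smul_mul_assoc, h0, zero_mul]
      exact FaithfulSMul.algebraMap_injective R S (h1.trans (map_zero _).symm)
    bij := (Module.FaithfullyFlat.lTensor_bijective_iff_bijective R S
      (f := (AlgHom.mulLeftRight R A).toLinearMap)).1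
        ((bijective_lTensor_mulLeftRight_iff R A S).2 IsAzumaya.bij) }

/-- Transitivity of base change for a possibly noncommutative algebra. -/
noncomputable def cancelEquiv (S : Type w) [CommRing S] [Algebra R S] (T : Type w') [CommRing T]
    [Algebra R T] [Algebra S T] [IsScalarTower R S T] : T ⊗[S] (S ⊗[R] A) ≃ₐ[T] T ⊗[R] A :=
  AlgEquiv.symm <| AlgEquiv.ofLinearEquiv
    (TensorProduct.AlgebraTensorModule.cancelBaseChange R S T T A).symm
    (by simp [Algebra.TensorProduct.one_def]) <|
      LinearMap.map_mul_of_map_mul_tmul (fun _ _ _ _ ↦ by simp)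

end Main

end Groth.Azum
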