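import Groth.Agent.CSA.Basic
import Mathlib.RingTheory.Etale.Field
import Mathlib.RingTheory.Flat.Basic
import Mathlib.LinearAlgebra.Matrix.ToLin
/-! # Maximal étale subalgebras of central simple algebras are their own centralizers -/

universe u v

open scoped TensorProduct

namespace Groth.Azum

theorem mem_range_of_commute {K : Type u} [Field K] {V : Type v} [AddCommGroup V] [Module K V]
    {P : Type*} [Fintype P] [Nonempty P] (hV : Module.finrank K V = Fintype.card P)
    (q : (P → K) →ₐ[K] Module.End K V) (hq : Function.Injective q) (X : Module.End K V)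
    (hX : ∀ c, X * q c = q c * X) : X ∈ Set.range q := by
  classical
  have hv : ∀ i, ∃ v, v ≠ 0 ∧ q (Pi.single i 1) v = v := fun i => by
    have hne : q (Pi.single i 1) ≠ 0 := fun h => by
      have := hq (h.trans (map_zero q).symm)
      simpa using congrFun this i
    obtain ⟨w, hw⟩ : ∃ w, q (Pi.single i 1) w ≠ 0 := by
      by_contra hcon
      push Not at hcon
      exact hne (LinearMap.ext hcon)
    refine ⟨_, hw, ?_⟩
    rw [← Module.End.mul_apply, ← map_mul, ← Pi.single_mul, one_mul]
  choose v hv0 hv1 using hv
  have hc : ∀ (c : P → K) (i : P), q c (v i) = c i • v i := fun c i => by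
    have : c * Pi.single i 1 = c i • (Pi.single i 1 : P → K) := by
      ext j; by_cases h : j = i
      · subst h; simp
      · simp [h]
    conv_lhs => rw [← hv1 i]
    rw [← Module.End.mul_apply, ← map_mul, this, map_smul, LinearMap.smul_apply, hv1]
  have hli : LinearIndependent K v := Fintype.linearIndependent_iff.2 fun g hg i => by
    have h := congrArg (q (Pi.single i 1)) hg
    rw [map_sum, map_zero, Finset.sum_eq_single i] at h
    · rw [map_smul, hv1] at h; exact (smul_eq_zero.1 h).resolve_right (hv0 i)
    · intro j _ hj; simp [hc, hj]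
    · simp
  let b := basisOfLinearIndependentOfCardEqFinrank hli hV.symm
  have hb : ∀ i, b i = v i := fun i => by simp [b]
  refine ⟨fun i => b.repr (X (v i)) i, b.ext fun i => ?_⟩
  rw [hb, hc]
  have h1 : X (v i) = q (Pi.single i 1) (X (v i)) := by
    conv_lhs => rw [← hv1 i]
    exact LinearMap.congr_fun (hX _) (v i)
  have h2 : q (Pi.single i 1) (X (v i)) = b.repr (X (v i)) i • v i := by
    conv_lhs => rw [← b.sum_repr (X (v i))]
    rw [map_sum, Finset.sum_eq_single i]
    · rw [map_smul, hb, hv1]
    · intro j _ hj; simp [hb, hc, hj]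
    · simp
  exact (h1.trans h2).symm

theorem etale_of_isSeparable (K : Type u) [Field K] (L : Type u) [CommRing L] [Algebra K L]
    [Module.Finite K L] [Algebra.IsSeparable K L] : Algebra.Etale K L := by
  have : IsReduced L := ⟨fun x ⟨n, hn⟩ => by
    have hs := Algebra.IsSeparable.isSeparable K x
    have hdvd : minpoly K x ∣ Polynomial.X ^ n := minpoly.dvd K x (by simp [hn])
    obtain ⟨i, hi, hass⟩ := (dvd_prime_pow Polynomial.prime_X n).1 hdvd
    have h0 : x ^ i = 0 := by
      obtain ⟨c, hc⟩ := hass
      have := minpoly.aeval K x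
      have h := congrArg (Polynomial.aeval x) hc
      rw [map_mul, this, zero_mul, map_pow, Polynomial.aeval_X] at h
      exact h.symm
    have hsq : Squarefree ((Polynomial.X : Polynomial K) ^ i) := (hass.squarefree_iff).1 hs.squarefree
    rcases Nat.lt_or_ge i 2 with h2 | h2
    · interval_cases i
      · rw [pow_zero] at h0; rw [← one_mul x, h0, zero_mul]
      · simpa using h0
    · exact absurd (hsq _ (by rw [← sq]; exact pow_dvd_pow _ h2)) Polynomial.not_isUnit_X⟩
  have : IsArtinianRing L := isArtinian_of_tower K inferInstance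
  let _ (m : MaximalSpectrum L) : Field (L ⧸ m.asIdeal) := Ideal.Quotient.field m.asIdeal
  refine (Algebra.Etale.iff_exists_algEquiv_prod K L).2 ⟨MaximalSpectrum L, inferInstance,
    fun m => L ⧸ m.asIdeal, inferInstance, inferInstance,
    (IsArtinianRing.equivPi L).restrictScalars K, fun m => ⟨inferInstance, ⟨fun z => ?_⟩⟩⟩
  obtain ⟨z, rfl⟩ := Ideal.Quotient.mk_surjective z
  exact (Algebra.IsSeparable.isSeparable K z).of_dvd
    (minpoly.dvd K _ (by
      rw [show Ideal.Quotient.mk m.asIdeal z = Ideal.Quotient.mkₐ K m.asIdeal z from rfl,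
        Polynomial.aeval_algHom_apply, minpoly.aeval, map_zero]))

theorem centralizer_eq (K : Type u) [Field K] (B : Type u) [Ring B] [Algebra K B]
    [Algebra.IsCentral K B] [IsSimpleRing B] [FiniteDimensional K B] {r : ℕ}
    (hB : Module.finrank K B = r ^ 2) (L : Type u) [CommRing L] [Algebra K L] [Algebra.Etale K L]
    [Module.Finite K L] (hL : Module.finrank K L = r) (f : L →ₐ[K] B) (hf : Function.Injective f)
    (y : B) (hy : ∀ l, y * f l = f l * y) : y ∈ Set.range f := by
  let K' := AlgebraicClosure K
  have := CSA.isSimpleRing_baseChange K B K'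
  obtain ⟨n, hn, ⟨e⟩⟩ := IsSimpleRing.exists_algEquiv_matrix_of_isAlgClosed K' (K' ⊗[K] B)
  have hnr : n = r := by
    have h := e.toLinearEquiv.finrank_eq
    rw [Module.finrank_baseChange, hB, Module.finrank_matrix] at h
    simp only [Fintype.card_fin, Module.finrank_self, mul_one, ← sq] at h
    exact (Nat.pow_left_injective two_ne_zero h).symm
  let eL := Algebra.FormallyEtale.equivPiOfIsSepClosed K' (K' ⊗[K] L)
  have : IsArtinianRing (K' ⊗[K] L) := isArtinian_of_tower K' inferInstance
  have : Fintype (PrimeSpectrum (K' ⊗[K] L)) := Fintype.ofFinite _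
  have hP : Fintype.card (PrimeSpectrum (K' ⊗[K] L)) = r := by
    have h := eL.toLinearEquiv.finrank_eq
    rw [Module.finrank_baseChange, hL, Module.finrank_pi] at h
    exact h.symm
  let f' : K' ⊗[K] L →ₐ[K'] K' ⊗[K] B := Algebra.TensorProduct.map (AlgHom.id K' K') f
  have hf' : Function.Injective f' :=
    Module.Flat.lTensor_preserves_injective_linearMap (M := K') f.toLinearMap hf
  let M := e.trans Matrix.toLinAlgEquiv'
  let q := M.toAlgHom.comp (f'.comp eL.symm.toAlgHom)
  have hcomm : ∀ z, ((1 : K') ⊗ₜ[K] y) * f' z = f' z * ((1 : K') ⊗ₜ[K] y) := fun z => by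
    induction z using TensorProduct.induction_on with
    | zero => simp
    | tmul c l => simp [f', hy]
    | add a b ha hb => simp only [map_add, mul_add, add_mul, ha, hb]
  have : Nonempty (PrimeSpectrum (K' ⊗[K] L)) := Fintype.card_pos_iff.1 (by
    rw [hP, ← hnr]; exact Nat.pos_of_ne_zero hn.out)
  obtain ⟨c, hc⟩ := mem_range_of_commute (by rw [hP, ← hnr, Module.finrank_fin_fun]) q
    (M.injective.comp (hf'.comp eL.symm.injective)) (M ((1 : K') ⊗ₜ[K] y)) fun c => by
      change M _ * M (f' _) = M (f' _) * M _
      rw [← map_mul, ← map_mul, hcomm]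
  have hz : f' (eL.symm c) = (1 : K') ⊗ₜ[K] y := M.injective hc
  by_contra hmem
  obtain ⟨φ, hφy, hφ⟩ := Submodule.exists_dual_map_eq_bot_of_notMem
    (p := LinearMap.range f.toLinearMap) (x := y) (fun ⟨l, hl⟩ => hmem ⟨l, hl⟩) inferInstance
  have h0 : ∀ z, φ.baseChange K' (f' z) = 0 := fun z => by
    induction z using TensorProduct.induction_on with
    | zero => simp
    | tmul c l =>
      have : φ (f l) = 0 := by
        have := Submodule.mem_map_of_mem (f := φ) (LinearMap.mem_range_self f.toLinearMap l)
        rwa [hφ, Submodule.mem_bot] at this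
      simp [f', this]
    | add a b ha hb => simp only [map_add, ha, hb, add_zero]
  have h1 := congrArg (TensorProduct.AlgebraTensorModule.rid K K' K') (h0 (eL.symm c))
  rw [hz] at h1
  simp [Algebra.smul_def, hφy] at h1

end Groth.Azum
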