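import Groth.Agent.Misc1.Azumaya.RightModule
import Groth.Agent.Misc1.Azumaya.Centralizer
import Mathlib.RingTheory.Unramified.Finite
import Mathlib.RingTheory.Finiteness.Prod
import Mathlib.RingTheory.Ideal.GoingUp
import Mathlib.LinearAlgebra.TensorProduct.Basis
/-! # An Azumaya algebra over a local ring as a module over a maximal étale subalgebra -/

universe u v

open scoped TensorProduct
open IsLocalRing

namespace Groth.Azum

theorem finite_maximalSpectrum_of_finite (R E : Type u) [CommRing R] [CommRing E] [Algebra R E]
    [IsLocalRing R] [Module.Finite R E] : Finite (MaximalSpectrum E) := by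
  let J := (maximalIdeal R).map (algebraMap R E)
  let _ : Field (R ⧸ maximalIdeal R) := Ideal.Quotient.field (maximalIdeal R)
  have : Module.Finite (R ⧸ maximalIdeal R) (E ⧸ J) := Module.Finite.of_restrictScalars_finite R _ _
  have : IsArtinianRing (E ⧸ J) := .of_finite (R ⧸ maximalIdeal R) _
  have hle : ∀ n : MaximalSpectrum E, J ≤ n.asIdeal := fun n => by
    have : Algebra.IsIntegral R E := Algebra.IsIntegral.of_finite R E
    rw [Ideal.map_le_iff_le_comap]
    exact (eq_maximalIdeal (Ideal.isMaximal_comap_of_isIntegral_of_isMaximal (R := R) n.asIdeal)).ge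
  refine Finite.of_injective (fun n : MaximalSpectrum E => (⟨n.asIdeal.map (Ideal.Quotient.mk J),
    Ideal.IsMaximal.map_of_surjective_of_ker_le Ideal.Quotient.mk_surjective
      (by rw [Ideal.mk_ker]; exact hle n)⟩ : MaximalSpectrum (E ⧸ J))) fun a b h => ?_
  have h' := congrArg (fun t : MaximalSpectrum (E ⧸ J) => t.asIdeal.comap (Ideal.Quotient.mk J)) h
  simp only [Ideal.comap_map_of_surjective _ Ideal.Quotient.mk_surjective,
    ← RingHom.ker_eq_comap_bot, Ideal.mk_ker, sup_eq_left.2 (hle a), sup_eq_left.2 (hle b)] at h'
  exact MaximalSpectrum.ext h'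

variable {R : Type u} [CommRing R] [IsLocalRing R] {A : Type u} [Ring A] [Algebra R A] [IsAzumaya R A]
  {r : ℕ} {E : Type u} [CommRing E] [Algebra R E] [Algebra.Etale R E] [Module.Finite R E]
  [Module.Free R E] (u : E →ₐ[R] A)

/-- The image of a maximal étale subalgebra is its own centralizer. -/
theorem centralizer_maximal_etale (hA : Module.finrank R A = r ^ 2) (hE : Module.finrank R E = r)
    (hu : Function.Injective (u.toLinearMap.lTensor (ResidueField R))) (y : A)
    (hy : ∀ e, y * u e = u e * y) : y ∈ Set.range u := by
  classical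
  have : Module.Free R A := Module.free_of_flat_of_isLocalRing
  obtain ⟨s, hs⟩ := (split_injective_iff_lTensor_residueField_injective u.toLinearMap).2 hu
  have hsu : ∀ e, s (u e) = e := LinearMap.congr_fun hs
  let K := ResidueField R
  have := baseChange R A K
  obtain ⟨_, _⟩ := (isAzumaya_iff_field K (K ⊗[R] A)).1 this
  have hB : Module.finrank K (K ⊗[R] A) = r ^ 2 := by rw [Module.finrank_baseChange, hA]
  have hL : Module.finrank K (K ⊗[R] E) = r := by rw [Module.finrank_baseChange, hE]
  let f : K ⊗[R] E →ₐ[K] K ⊗[R] A := Algebra.TensorProduct.map (AlgHom.id K K) u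
  have hf : Function.Injective f := hu
  let b := Module.Free.chooseBasis R E
  let D : A →ₗ[R] (Module.Free.ChooseBasisIndex R E → A) :=
    LinearMap.pi fun j => LinearMap.mulRight R (u (b j)) - LinearMap.mulLeft R (u (b j))
  let h : A →ₗ[R] (Module.Free.ChooseBasisIndex R E → A) × E := D.prod s
  have hh0 : Function.Injective (h.lTensor K) := by
    refine (injective_iff_map_eq_zero _).2 fun z hz => ?_
    have h1 : D.lTensor K z = 0 := by
      have := congrArg ((LinearMap.fst R _ E).lTensor K) hz
      rwa [← LinearMap.comp_apply, ← LinearMap.lTensor_comp, LinearMap.fst_prod, map_zero] at this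
    have h2 : s.lTensor K z = 0 := by
      have := congrArg ((LinearMap.snd R (Module.Free.ChooseBasisIndex R E → A) E).lTensor K) hz
      rwa [← LinearMap.comp_apply, ← LinearMap.lTensor_comp, LinearMap.snd_prod, map_zero] at this
    have hj : ∀ j, z * f ((1 : K) ⊗ₜ b j) = f ((1 : K) ⊗ₜ b j) * z := fun j => by
      have h3 := congrArg ((LinearMap.proj j).lTensor K) h1
      rw [← LinearMap.comp_apply, ← LinearMap.lTensor_comp, LinearMap.proj_pi, map_zero,
        LinearMap.lTensor_sub, LinearMap.sub_apply, sub_eq_zero] at h3
      have hr : ∀ w, (LinearMap.mulRight R (u (b j))).lTensor K w = w * f ((1 : K) ⊗ₜ b j) := fun w => by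
        induction w using TensorProduct.induction_on with
        | zero => simp
        | tmul c a => simp [f]
        | add a c ha hc => simp only [map_add, ha, hc, add_mul]
      have hl : ∀ w, (LinearMap.mulLeft R (u (b j))).lTensor K w = f ((1 : K) ⊗ₜ b j) * w := fun w => by
        induction w using TensorProduct.induction_on with
        | zero => simp
        | tmul c a => simp [f]
        | add a c ha hc => simp only [map_add, ha, hc, mul_add]
      rwa [hr, hl] at h3
    obtain ⟨l, rfl⟩ := centralizer_eq K (K ⊗[R] A) hB (K ⊗[R] E) hL f hf z fun l => by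
      rw [← (Algebra.TensorProduct.basis K b).sum_repr l]
      simp only [map_sum, map_smul, Algebra.TensorProduct.basis_apply, Finset.mul_sum, Finset.sum_mul,
        mul_smul_comm, smul_mul_assoc, hj]
    have h4 : s.lTensor K (f l) = l := by
      change (s.lTensor K) ((u.toLinearMap.lTensor K) l) = l
      rw [← LinearMap.comp_apply, ← LinearMap.lTensor_comp, hs, LinearMap.lTensor_id, LinearMap.id_apply]
    rw [h4] at h2
    rw [h2, map_zero]
  obtain ⟨h', hh'⟩ := (split_injective_iff_lTensor_residueField_injective h).2 hh0
  refine ⟨s y, ?_⟩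
  have h0 : h (y - u (s y)) = 0 := by
    refine Prod.ext ?_ ?_
    · funext j
      simp [h, D, hy, ← map_mul, mul_comm]
    · simp [h, hsu]
  have := congrArg h' h0
  rw [← LinearMap.comp_apply, hh', map_zero, LinearMap.id_apply, sub_eq_zero] at this
  exact this.symm

variable [Module E A] [IsScalarTower R E A] (hmod : ∀ (e : E) (a : A), e • a = a * u e)

theorem rightHom_bijective (hA : Module.finrank R A = r ^ 2) (hE : Module.finrank R E = r)
    (hu : Function.Injective (u.toLinearMap.lTensor (ResidueField R))) :
    Function.Bijective (rightHom u hmod) := by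
  classical
  have : Module.Free R A := Module.free_of_flat_of_isLocalRing
  have hbij := IsAzumaya.AlgHom.mulLeftRight_bij R A
  obtain ⟨s, hs⟩ := (split_injective_iff_lTensor_residueField_injective u.toLinearMap).2 hu
  have hui : Function.Injective u := fun a b hab => by
    rw [← LinearMap.id_apply (R := R) a, ← LinearMap.id_apply (R := R) b, ← hs]
    exact congrArg s hab
  refine ⟨rightHom_injective u hmod (toDouble_injective u hui) hbij.1, fun φ => ?_⟩
  obtain ⟨t, ht⟩ := hbij.2 (φ.restrictScalars R)
  let a := Module.Free.chooseBasis R A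
  let c := TensorProduct.equivFinsuppOfBasisLeft (N := Aᵐᵒᵖ) a t
  have htc : ∀ x, φ x = ∑ i, a i * x * (c i).unop := fun x => by
    have h1 : t = ∑ i, a i ⊗ₜ[R] c i := by
      conv_lhs => rw [← (TensorProduct.equivFinsuppOfBasisLeft (N := Aᵐᵒᵖ) a).symm_apply_apply t]
      rw [TensorProduct.equivFinsuppOfBasisLeft_symm_apply, Finsupp.sum_fintype _ _ (by simp)]
    have h2 := LinearMap.congr_fun ht x
    rw [h1, map_sum, LinearMap.sum_apply] at h2
    simpa using h2.symm
  have hc : ∀ i e, (c i).unop * u e = u e * (c i).unop := fun i e => by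
    have h1 : (∑ j, a j ⊗ₜ[R] MulOpposite.op (u e * (c j).unop)) =
        ∑ j, a j ⊗ₜ[R] MulOpposite.op ((c j).unop * u e) := by
      refine hbij.1 (LinearMap.ext fun x => ?_)
      simp only [map_sum, LinearMap.sum_apply, AlgHom.mulLeftRight_apply, MulOpposite.unop_op]
      have h2 := φ.map_smul e x
      rw [hmod, hmod, htc, htc, Finset.sum_mul] at h2
      simpa [mul_assoc] using h2
    have h3 := congrArg (fun w => TensorProduct.equivFinsuppOfBasisLeft (N := Aᵐᵒᵖ) a w i) h1
    simp only [map_sum, Finsupp.coe_finsetSum, Finset.sum_apply,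
      TensorProduct.equivFinsuppOfBasisLeft_apply_tmul_apply, Module.Basis.repr_self, Finsupp.single_apply,
      ite_smul, one_smul, zero_smul, Finset.sum_ite_eq', Finset.mem_univ, if_true] at h3
    exact (MulOpposite.op_injective h3).symm
  choose e he using fun i => centralizer_maximal_etale u hA hE hu _ (hc i)
  refine ⟨∑ i, e i ⊗ₜ a i, LinearMap.ext fun x => ?_⟩
  rw [map_sum, LinearMap.sum_apply, htc]
  simp [rightHom_tmul, he]

include hmod in
theorem free_finrank_and_split (hA : Module.finrank R A = r ^ 2) (hE : Module.finrank R E = r)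
    (hu : Function.Injective (u.toLinearMap.lTensor (ResidueField R))) :
    Module.Free E A ∧ Module.finrank E A = r ∧ Nonempty ((E ⊗[R] A) ≃ₐ[E] Module.End E A) := by
  have : Module.Free R A := Module.free_of_flat_of_isLocalRing
  have : Module.Projective E A := Algebra.FormallyUnramified.projective_of_restrictScalars R E A
  have : Module.Finite E A := Module.Finite.of_restrictScalars_finite R E A
  let ψ := AlgEquiv.ofBijective (rightHom u hmod) (rightHom_bijective u hmod hA hE hu)
  refine ⟨?_, ?_, ⟨ψ⟩⟩ <;>
  · have : Nontrivial A := (FaithfulSMul.algebraMap_injective R A).nontrivial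
    have : Nontrivial E := u.toRingHom.domain_nontrivial
    have := finite_maximalSpectrum_of_finite R E
    have rk : ∀ P : MaximalSpectrum E, Module.finrank (E ⧸ P.1) ((E ⧸ P.1) ⊗[E] A) = r := fun P => by
      let _ : Field (E ⧸ P.1) := Ideal.Quotient.field P.1
      have h1 := (LinearEquiv.ofBijective (LinearMap.tensorProduct E (E ⧸ P.1) A A)
        (tensorProduct_bijective E (E ⧸ P.1) A A)).finrank_eq
      have : Module.Free E (Module.End E A) := Module.Free.of_equiv ψ.toLinearEquiv
      change Module.finrank (E ⧸ P.1) ((E ⧸ P.1) ⊗[E] Module.End E A) = _ at h1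
      rw [Module.finrank_baseChange, ← ψ.toLinearEquiv.finrank_eq, Module.finrank_baseChange, hA,
        Module.finrank_linearMap, ← sq] at h1
      exact (Nat.pow_left_injective two_ne_zero h1).symm
    first
      | exact Module.free_of_flat_of_finrank_eq E A r rk
      | (obtain ⟨b⟩ := Module.nonempty_basis_of_flat_of_finrank_eq E A r rk
         simpa using Module.finrank_eq_card_basis b)

end Groth.Azum
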