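import Groth.Agent.Misc1.Azumaya.Basic
import Groth.Agent.Misc1.Azumaya.Centralizer
import Mathlib.RingTheory.Finiteness.Prod
/-! # Regular elements of Azumaya algebras over local rings -/

universe u v

open scoped TensorProduct
open IsLocalRing

namespace Groth.Azum

theorem powers_of_finrank_adjoin {K : Type u} [Field K] {B : Type v} [Ring B] [Algebra K B]
    [FiniteDimensional K B] (x : B) {r : ℕ}
    (h : Module.finrank K (Algebra.adjoin K ({x} : Set B)) = r) :
    LinearIndependent K (fun i : Fin r => x ^ (i : ℕ)) ∧
      ∀ y ∈ Algebra.adjoin K ({x} : Set B), y ∈ Submodule.span K (Set.range fun i : Fin r => x ^ (i : ℕ)) := by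
  have hx : IsIntegral K x := IsIntegral.of_finite K x
  have hli := linearIndependent_pow (K := K) x
  have hle : ∀ y ∈ Algebra.adjoin K ({x} : Set B),
      y ∈ Submodule.span K (Set.range fun i : Fin (minpoly K x).natDegree => x ^ (i : ℕ)) := by
    intro y hy
    rw [Algebra.adjoin_singleton_eq_range_aeval] at hy
    obtain ⟨p, rfl⟩ := hy
    change Polynomial.aeval x p ∈ _
    rw [← Polynomial.modByMonic_add_div p (minpoly K x), map_add, map_mul, minpoly.aeval, zero_mul,
      add_zero, Polynomial.aeval_eq_sum_range]
    refine Submodule.sum_mem _ fun i hi => ?_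
    by_cases h0 : (p %ₘ minpoly K x).coeff i = 0
    · simp [h0]
    refine Submodule.smul_mem _ _ (Submodule.subset_span ⟨⟨i, ?_⟩, rfl⟩)
    have hne : minpoly K x ≠ 1 := fun h1 => by
      have := minpoly.aeval K x
      rw [h1, map_one] at this
      have hs : Subsingleton B := subsingleton_of_zero_eq_one this.symm
      exact h0 (by simp [h1])
    exact lt_of_le_of_lt (Polynomial.le_natDegree_of_ne_zero h0)
      (Polynomial.natDegree_modByMonic_lt _ (minpoly.monic hx) hne)
  have heq : Subalgebra.toSubmodule (Algebra.adjoin K ({x} : Set B)) =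
      Submodule.span K (Set.range fun i : Fin (minpoly K x).natDegree => x ^ (i : ℕ)) :=
    le_antisymm hle (Submodule.span_le.2 (by
      rintro _ ⟨i, rfl⟩
      exact pow_mem (Algebra.self_mem_adjoin_singleton K x) _))
  have hd : (minpoly K x).natDegree = r := by
    rw [← h, ← Subalgebra.finrank_toSubmodule, heq, finrank_span_eq_card hli, Fintype.card_fin]
  subst hd
  exact ⟨hli, hle⟩

variable (R : Type u) [CommRing R] [IsLocalRing R] (A : Type u) [Ring A] [Algebra R A] [IsAzumaya R A]

theorem regular_section (r : ℕ) (hA : Module.finrank R A = r ^ 2) (ξ : A)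
    (hsep : Algebra.IsSeparable (ResidueField R) (Algebra.adjoin (ResidueField R) ({(1 : ResidueField R) ⊗ₜ[R] ξ} : Set (ResidueField R ⊗[R] A))))
    (hrk : Module.finrank (ResidueField R) (Algebra.adjoin (ResidueField R) ({(1 : ResidueField R) ⊗ₜ[R] ξ} : Set (ResidueField R ⊗[R] A))) = r) :
    LinearIndependent R (fun i : Fin r => ξ ^ (i : ℕ)) ∧
      ξ ^ r ∈ Submodule.span R (Set.range (fun i : Fin r => ξ ^ (i : ℕ))) := by
  have : Module.Free R A := Module.free_of_flat_of_isLocalRing
  set K := ResidueField R
  set x : K ⊗[R] A := (1 : K) ⊗ₜ[R] ξ with hxdef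
  have := baseChange R A K
  obtain ⟨_, _⟩ := (isAzumaya_iff_field K (K ⊗[R] A)).1 this
  have hB : Module.finrank K (K ⊗[R] A) = r ^ 2 := by rw [Module.finrank_baseChange, hA]
  obtain ⟨hli, hspan⟩ := powers_of_finrank_adjoin x hrk
  -- the subalgebra generated by `x` is commutative and étale
  let _ : CommRing (Algebra.adjoin K ({x} : Set (K ⊗[R] A))) :=
    { (Algebra.adjoin K ({x} : Set (K ⊗[R] A))).toRing with
      mul_comm := fun a b => Subtype.ext (by
        obtain ⟨a, ha⟩ := a
        obtain ⟨b, hb⟩ := b
        rw [Algebra.adjoin_singleton_eq_range_aeval] at ha hb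
        obtain ⟨p, rfl⟩ := ha
        obtain ⟨q, rfl⟩ := hb
        change Polynomial.aeval x p * Polynomial.aeval x q = Polynomial.aeval x q * Polynomial.aeval x p
        rw [← map_mul, ← map_mul, mul_comm]) }
  have : Algebra.Etale K (Algebra.adjoin K ({x} : Set (K ⊗[R] A))) := etale_of_isSeparable K _
  let g : (Fin r → R) →ₗ[R] A := Fintype.linearCombination R (fun i : Fin r => ξ ^ (i : ℕ))
  let D : A →ₗ[R] A := LinearMap.mulLeft R ξ - LinearMap.mulRight R ξ
  have hpow : ∀ i : ℕ, x ^ i = (1 : K) ⊗ₜ[R] (ξ ^ i) := fun i => by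
    rw [hxdef, Algebra.TensorProduct.tmul_pow, one_pow]
  have hg0 : Function.Injective (g.lTensor K) := by
    let ψ : (Fin r → K) →ₗ[K] K ⊗[R] A := Fintype.linearCombination K (fun i : Fin r => x ^ (i : ℕ))
    have hψ : ∀ z, g.lTensor K z = ψ (TensorProduct.piScalarRight R K K (Fin r) z) := fun z => by
      induction z using TensorProduct.induction_on with
      | zero => simp
      | tmul c v =>
        simp only [g, ψ, Fintype.linearCombination_apply, LinearMap.lTensor_tmul, TensorProduct.tmul_sum,
          TensorProduct.piScalarRight_apply, TensorProduct.piScalarRightHom_tmul, hpow,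
          TensorProduct.smul_tmul', smul_eq_mul, mul_one, ← TensorProduct.smul_tmul]
      | add a b ha hb => simp only [map_add, ha, hb]
    intro a b hab
    rw [hψ, hψ] at hab
    exact (TensorProduct.piScalarRight R K K (Fin r)).injective
      (hli.fintypeLinearCombination_injective hab)
  obtain ⟨s, hs⟩ := (split_injective_iff_lTensor_residueField_injective g).2 hg0
  have hginj : Function.Injective g := fun a b hab => by
    have := congrArg s hab
    rwa [← LinearMap.comp_apply, ← LinearMap.comp_apply, hs] at this
  refine ⟨Fintype.linearIndependent_iff.2 fun c hc => congrFun (hginj (a₁ := c) (a₂ := 0) (by rw [map_zero, ← hc]; rfl)), ?_⟩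
  let h : A →ₗ[R] A × (Fin r → R) := D.prod s
  have hh0 : Function.Injective (h.lTensor K) := by
    refine (injective_iff_map_eq_zero _).2 fun z hz => ?_
    have h1 : D.lTensor K z = 0 := by
      have := congrArg ((LinearMap.fst R A (Fin r → R)).lTensor K) hz
      rwa [← LinearMap.comp_apply, ← LinearMap.lTensor_comp, LinearMap.fst_prod, map_zero] at this
    have h2 : s.lTensor K z = 0 := by
      have := congrArg ((LinearMap.snd R A (Fin r → R)).lTensor K) hz
      rwa [← LinearMap.comp_apply, ← LinearMap.lTensor_comp, LinearMap.snd_prod, map_zero] at this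
    have hD : ∀ w, D.lTensor K w = x * w - w * x := fun w => by
      induction w using TensorProduct.induction_on with
      | zero => simp
      | tmul c a => simp [D, hxdef]
      | add a b ha hb => simp only [map_add, ha, hb, mul_add, add_mul]; abel
    have hcomm : x * z = z * x := sub_eq_zero.1 (by rw [← hD]; exact h1)
    obtain ⟨l, hl⟩ := centralizer_eq K (K ⊗[R] A) hB _ hrk (Algebra.adjoin K ({x} : Set (K ⊗[R] A))).val
      Subtype.val_injective z fun l => by
        obtain ⟨l, hl⟩ := l
        change z * l = l * z
        rw [Algebra.adjoin_singleton_eq_range_aeval] at hl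
        obtain ⟨p, rfl⟩ := hl
        change z * Polynomial.aeval x p = Polynomial.aeval x p * z
        induction p using Polynomial.induction_on with
        | C a => rw [Polynomial.aeval_C, Algebra.commutes]
        | add p q hp hq => rw [map_add, mul_add, add_mul, hp, hq]
        | monomial n a ih =>
          rw [pow_succ, ← mul_assoc, map_mul, Polynomial.aeval_X, ← mul_assoc, ih, mul_assoc, ← hcomm,
            mul_assoc]
    have hzg : z ∈ LinearMap.range (g.lTensor K) := by
      have := hspan z (by rw [← hl]; exact l.2)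
      refine Submodule.span_induction ?_ (zero_mem _) (fun a b _ _ => add_mem) ?_ this
      · rintro _ ⟨i, rfl⟩
        exact ⟨(1 : K) ⊗ₜ Pi.single i 1, by simp [g, hpow, Fintype.linearCombination_apply_single]⟩
      · intro c a _ ha
        obtain ⟨w, rfl⟩ := ha
        refine ⟨c • w, ?_⟩
        rw [← LinearMap.baseChange_eq_ltensor, map_smul]
    obtain ⟨w, rfl⟩ := hzg
    rw [← LinearMap.comp_apply, ← LinearMap.lTensor_comp, hs, LinearMap.lTensor_id, LinearMap.id_apply] at h2
    rw [h2, map_zero]
  obtain ⟨h', hh'⟩ := (split_injective_iff_lTensor_residueField_injective h).2 hh0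
  have hkill : ∀ a, h a = 0 → a = 0 := fun a ha => by
    have := congrArg h' ha
    rwa [← LinearMap.comp_apply, hh', map_zero] at this
  have hDg : ∀ c, D (g c) = 0 := fun c => by
    simp only [g, Fintype.linearCombination_apply, map_sum, map_smul]
    refine Finset.sum_eq_zero fun i _ => ?_
    simp [D, ← pow_succ, ← pow_succ']
  have hmem : ξ ^ r = g (s (ξ ^ r)) := by
    refine sub_eq_zero.1 (hkill _ (Prod.ext ?_ ?_))
    · change D (ξ ^ r - g (s (ξ ^ r))) = 0
      rw [map_sub, hDg, sub_zero]
      simp [D, ← pow_succ, ← pow_succ']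
    · change s (ξ ^ r - g (s (ξ ^ r))) = 0
      rw [map_sub, ← LinearMap.comp_apply s g, hs]
      simp
  rw [hmem]
  simp only [g, Fintype.linearCombination_apply]
  exact Submodule.sum_mem _ fun i _ => Submodule.smul_mem _ _ (Submodule.subset_span ⟨i, rfl⟩)

end Groth.Azum
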