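import Groth.Agent.CSA.Splitting
import Mathlib.FieldTheory.Finite.Extension
import Mathlib.FieldTheory.PrimitiveElement
import Mathlib.FieldTheory.SeparableClosure
import Mathlib.RingTheory.LittleWedderburn
import Mathlib.LinearAlgebra.Matrix.ToLin
import Mathlib.LinearAlgebra.FreeModule.Finite.Basic
/-! # Separable elements of maximal degree in central simple algebras -/

universe u v

open Polynomial

namespace Groth.Azum

variable {k : Type u} [Field k]

/-- If the minimal polynomial of `x` is separable then all elements of `k[x]` are separable. -/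
theorem isSeparable_adjoin_singleton {B : Type v} [Ring B] [Algebra k B] [FiniteDimensional k B]
    (x : B) (hx : (minpoly k x).Separable) :
    Algebra.IsSeparable k (Algebra.adjoin k ({x} : Set B)) := by
  classical
  refine ⟨fun y => ?_⟩
  obtain ⟨y, hy⟩ := y
  change (minpoly k _).Separable
  rw [← minpoly.algHom_eq (Algebra.adjoin k ({x} : Set B)).val Subtype.val_injective]
  change (minpoly k y).Separable
  rw [Algebra.adjoin_singleton_eq_range_aeval] at hy
  obtain ⟨p, rfl⟩ := hy
  change (minpoly k (aeval x p)).Separable
  set m := minpoly k x with hm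
  let K := AlgebraicClosure k
  let S : Finset k[X] := (m.aroots K).toFinset.image fun a => minpoly k (aeval a p)
  have hprop : ∀ q ∈ S, q.Monic ∧ Irreducible q ∧ q.Separable := fun q hq => by
    obtain ⟨a, ha, rfl⟩ := Finset.mem_image.1 hq
    have hint : IsIntegral k (aeval a p) := Algebra.IsIntegral.isIntegral _
    have hroot : aeval a m = 0 := (mem_aroots.1 (Multiset.mem_toFinset.1 ha)).2
    have hsa : IsSeparable k a := hx.of_dvd (minpoly.dvd k a hroot)
    refine ⟨minpoly.monic hint, minpoly.irreducible hint, ?_⟩
    have hle : Algebra.adjoin k ({a} : Set K) ≤ (separableClosure k K).toSubalgebra :=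
      Algebra.adjoin_le (Set.singleton_subset_iff.2 (mem_separableClosure_iff.2 hsa))
    exact mem_separableClosure_iff.1 (hle (aeval_mem_adjoin_singleton k a))
  have hsep : (∏ q ∈ S, q).Separable := by
    refine separable_prod' (fun q hq q' hq' hne => ?_) fun q hq => (hprop q hq).2.2
    refine (hprop q hq).2.1.coprime_iff_not_dvd.2 fun hdvd => hne ?_
    exact eq_of_monic_of_associated (hprop q hq).1 (hprop q' hq').1
      ((hprop q hq).2.1.associated_of_dvd (hprop q' hq').2.1 hdvd)
  have hdvd : m ∣ (∏ q ∈ S, q).comp p := by
    rw [← map_dvd_map' (algebraMap k K)]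
    have hm0 : m ≠ 0 := minpoly.ne_zero (IsIntegral.of_finite k x)
    have hspl : (m.map (algebraMap k K)).Splits := IsAlgClosed.splits _
    by_cases hh : ((∏ q ∈ S, q).comp p).map (algebraMap k K) = 0
    · rw [hh]; exact dvd_zero _
    refine (hspl.dvd_iff_roots_le_roots (map_ne_zero hm0) hh).2 ?_
    refine Multiset.le_iff_subset (nodup_roots (separable_map _ |>.2 hx)) |>.2 fun a ha => ?_
    rw [mem_roots hh, IsRoot, eval_map, ← aeval_def, aeval_comp]
    have hmem : minpoly k (aeval a p) ∈ S := Finset.mem_image.2 ⟨a, Multiset.mem_toFinset.2 ha, rfl⟩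
    obtain ⟨c, hc⟩ := Finset.dvd_prod_of_mem (fun q => q) hmem
    rw [hc, map_mul, minpoly.aeval, zero_mul]
  refine hsep.of_dvd (minpoly.dvd k _ ?_)
  rw [← aeval_comp]
  obtain ⟨c, hc⟩ := hdvd
  rw [hc, map_mul, hm, minpoly.aeval, zero_mul]

theorem finrank_adjoin_singleton {B : Type v} [Ring B] [Algebra k B] [FiniteDimensional k B]
    (x : B) (hB : Nontrivial B) :
    Module.finrank k (Algebra.adjoin k ({x} : Set B)) = (minpoly k x).natDegree := by
  have hx : IsIntegral k x := IsIntegral.of_finite k x
  have hli := linearIndependent_pow (K := k) x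
  have heq : Subalgebra.toSubmodule (Algebra.adjoin k ({x} : Set B)) =
      Submodule.span k (Set.range fun i : Fin (minpoly k x).natDegree => x ^ (i : ℕ)) := by
    refine le_antisymm (fun y hy => ?_) (Submodule.span_le.2 ?_)
    · rw [Subalgebra.mem_toSubmodule, Algebra.adjoin_singleton_eq_range_aeval] at hy
      obtain ⟨p, rfl⟩ := hy
      change aeval x p ∈ _
      rw [← modByMonic_add_div p (minpoly k x), map_add, map_mul, minpoly.aeval, zero_mul, add_zero,
        aeval_eq_sum_range]
      refine Submodule.sum_mem _ fun i hi => ?_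
      by_cases h0 : (p %ₘ minpoly k x).coeff i = 0
      · simp [h0]
      exact Submodule.smul_mem _ _ (Submodule.subset_span ⟨⟨i, lt_of_le_of_lt (le_natDegree_of_ne_zero h0)
        (natDegree_modByMonic_lt _ (minpoly.monic hx) (minpoly.ne_one k x))⟩, rfl⟩)
    · rintro _ ⟨i, rfl⟩
      exact pow_mem (Algebra.self_mem_adjoin_singleton k x) _
  rw [← Subalgebra.finrank_toSubmodule, heq, finrank_span_eq_card hli, Fintype.card_fin]

/-- In an infinite field, a separable irreducible polynomial has infinitely many translates. -/
theorem exists_translates [Infinite k] {f : k[X]} (hm : f.Monic) (hi : Irreducible f) (n : ℕ) :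
    ∃ c : Fin n → k, Function.Injective fun i => f.comp (X - C (c i)) := by
  classical
  have hfib : ∀ g : k[X], {c : k | f.comp (X - C c) = g}.Finite := by
    intro g
    rcases Set.eq_empty_or_nonempty {c : k | f.comp (X - C c) = g} with h | ⟨c₀, hc₀⟩
    · rw [h]; exact Set.finite_empty
    have := Fact.mk hi
    let α : AdjoinRoot f := AdjoinRoot.root f
    refine Set.Finite.subset ((f.rootSet_finite (AdjoinRoot f)).preimage
      (f := fun c => α + algebraMap k _ c₀ - algebraMap k _ c) fun a _ b _ h => ?_) fun c hc => ?_
    · exact (algebraMap k (AdjoinRoot f)).injective (sub_right_injective h)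
    · have h := congrArg (aeval (α + algebraMap k _ c₀)) (hc.trans hc₀.symm)
      rw [aeval_comp, aeval_comp] at h
      simp only [map_sub, aeval_X, aeval_C, add_sub_cancel_right] at h
      refine mem_rootSet.2 ⟨hm.ne_zero, ?_⟩
      rw [h]
      exact AdjoinRoot.aeval_eq f ▸ AdjoinRoot.mk_self
  have hinf : (Set.range fun c : k => f.comp (X - C c)).Infinite := fun hfin => by
    refine Set.infinite_univ (α := k) ((hfin.biUnion fun g _ => hfib g).subset fun c _ => ?_)
    exact Set.mem_iUnion₂.2 ⟨_, ⟨c, rfl⟩, rfl⟩
  let e := hinf.natEmbedding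
  have hex : ∀ i : Fin n, ∃ c : k, f.comp (X - C c) = (e i : k[X]) := fun i => Set.mem_range.1 (e i).2
  choose c hc using hex
  refine ⟨c, fun i j h => ?_⟩
  have h' : f.comp (X - C (c i)) = f.comp (X - C (c j)) := h
  rw [hc, hc] at h'
  exact Fin.ext (e.injective (Subtype.ext h'))

theorem minpoly_diagonal {D : Type v} [DivisionRing D] [Algebra k D] [FiniteDimensional k D] {n : ℕ}
    (b : Fin n → D) (g : Fin n → k[X]) (hg : ∀ i, g i = minpoly k (b i))
    (hinj : Function.Injective g) : minpoly k (Matrix.diagonal b) = ∏ i, g i := by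
  classical
  have hint : ∀ i, IsIntegral k (b i) := fun i => IsIntegral.of_finite k _
  have hev : ∀ p : k[X], aeval (Matrix.diagonal b) p = Matrix.diagonal fun i => aeval (b i) p := fun p => by
    change aeval (Matrix.diagonalAlgHom k b) p = _
    rw [aeval_algHom_apply]
    refine congrArg Matrix.diagonal (funext fun i => ?_)
    rw [← Pi.evalAlgHom_apply k (fun _ => D) i (aeval b p), ← aeval_algHom_apply]
    rfl
  refine eq_of_monic_of_associated (minpoly.monic (IsIntegral.of_finite k _))
    (monic_prod_of_monic _ _ fun i _ => hg i ▸ minpoly.monic (hint i))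
    (associated_of_dvd_dvd (minpoly.dvd k _ ?_) ?_)
  · rw [hev]
    refine (congrArg Matrix.diagonal (funext fun i => ?_)).trans Matrix.diagonal_zero
    obtain ⟨c, hc⟩ := Finset.dvd_prod_of_mem g (Finset.mem_univ i)
    rw [hc, map_mul, hg, minpoly.aeval, zero_mul]
  · refine Fintype.prod_dvd_of_coprime ?_ fun i => ?_
    · intro i j hij
      have hi : Irreducible (g i) := hg i ▸ minpoly.irreducible (hint i)
      refine hi.coprime_iff_not_dvd.2 fun h => hij (hinj ?_)
      exact eq_of_monic_of_associated (hg i ▸ minpoly.monic (hint i)) (hg j ▸ minpoly.monic (hint j))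
        (hi.associated_of_dvd (hg j ▸ minpoly.irreducible (hint j)) h)
    · rw [hg]
      refine minpoly.dvd k _ ?_
      have h := congrFun (congrFun (hev (minpoly k (Matrix.diagonal b))) i) i
      rw [minpoly.aeval] at h
      simpa using h.symm

/-- Every CSA of degree `r` contains an element with separable minimal polynomial of degree `r`. -/
theorem exists_separable_element (k : Type u) [Field k] (A : Type v) [Ring A] [Algebra k A]
    [Algebra.IsCentral k A] [IsSimpleRing A] [FiniteDimensional k A] {r : ℕ}
    (hA : Module.finrank k A = r ^ 2) :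
    ∃ x : A, (minpoly k x).Separable ∧ (minpoly k x).natDegree = r := by
  classical
  obtain ⟨n, hn, D, _, _, _, _, ⟨e⟩⟩ := CSA.exists_matrix_divisionRing k A
  suffices ∃ x : Matrix (Fin n) (Fin n) D, (minpoly k x).Separable ∧ (minpoly k x).natDegree = r by
    obtain ⟨x, h1, h2⟩ := this
    exact ⟨e.symm x, by rwa [minpoly.algEquiv_eq], by rwa [minpoly.algEquiv_eq]⟩
  have hrn : ∀ d, Module.finrank k D = d ^ 2 → r = n * d := fun d hd => by
    have h := e.toLinearEquiv.finrank_eq
    rw [hA, Module.finrank_matrix, hd] at h
    simp only [Fintype.card_fin] at h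
    exact Nat.pow_left_injective two_ne_zero (by simpa [mul_pow, sq, mul_comm, mul_left_comm, mul_assoc] using h)
  rcases finite_or_infinite k with hk | hk
  · -- `D` is a finite division ring, hence `k`
    have : Finite D := Module.finite_of_finite k
    have hD : Module.finrank k D = 1 ^ 2 := by
      have hbot : (⊤ : Subalgebra k D) ≤ ⊥ := fun y _ => by
        obtain ⟨c, hc⟩ := (Algebra.IsCentral.mem_center_iff k).1
          (Subalgebra.mem_center_iff.2 fun z => (Finite.isDomain_to_isField D).mul_comm z y)
        exact Algebra.mem_bot.2 ⟨c, hc.symm⟩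
      rw [one_pow, ← Subalgebra.finrank_bot (F := k) (E := D), ← eq_top_iff.2 hbot |>.symm,
        Subalgebra.topEquiv.toLinearEquiv.finrank_eq]
    have hr := hrn 1 hD
    rw [mul_one] at hr
    obtain ⟨p, hp⟩ := CharP.exists k
    have : Fact p.Prime := ⟨CharP.char_is_prime k p⟩
    let E := FiniteField.Extension k p n
    have hE : Module.finrank k E = n := FiniteField.finrank_extension k p n
    obtain ⟨α, hα⟩ := Field.exists_primitive_element k E
    let b := Module.finBasisOfFinrankEq k E hE
    let φ : E →ₐ[k] Matrix (Fin n) (Fin n) D :=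
      (Algebra.ofId k D).mapMatrix.comp (Algebra.leftMulMatrix b)
    have hφ : Function.Injective φ := φ.toRingHom.injective
    refine ⟨φ α, ?_, ?_⟩
    · rw [minpoly.algHom_eq φ hφ]; exact Algebra.IsSeparable.isSeparable k α
    · rw [minpoly.algHom_eq φ hφ, hr]
      exact ((Field.primitive_element_iff_minpoly_natDegree_eq k α).1 hα).trans hE
  · obtain ⟨L, hcomm, hsep, hL⟩ := CSA.exists_separable_selfCentralizing k D
    have hdim := CSA.finrank_eq_sq_of_selfCentralizing k D L hcomm hL
    let _ : CommRing L := { (inferInstance : Ring L) with mul_comm := fun a b => Subtype.ext (hcomm a a.2 b b.2) }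
    let _ : Field L := fieldOfFiniteDimensional k L
    have := hsep
    obtain ⟨α, hα⟩ := Field.exists_primitive_element k L
    have hint : IsIntegral k α := Algebra.IsIntegral.isIntegral α
    obtain ⟨c, hc⟩ := exists_translates (minpoly.monic hint) (minpoly.irreducible hint) n
    let b : Fin n → D := fun i => ((α + algebraMap k L (c i) : L) : D)
    have hb : ∀ i, (minpoly k α).comp (X - C (c i)) = minpoly k (b i) := fun i => by
      rw [← minpoly.add_algebraMap, ← minpoly.algHom_eq L.val Subtype.val_injective]
      rfl
    have hmin := minpoly_diagonal b _ hb hc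
    refine ⟨Matrix.diagonal b, ?_, ?_⟩
    · rw [hmin]
      refine separable_prod (fun i j hij => ?_) fun i => ?_
      · have hi : Irreducible ((minpoly k α).comp (X - C (c i))) :=
          hb i ▸ minpoly.irreducible (IsIntegral.of_finite k _)
        refine hi.coprime_iff_not_dvd.2 fun h => hij (hc ?_)
        exact eq_of_monic_of_associated (by dsimp only; rw [hb]; exact minpoly.monic (IsIntegral.of_finite k _))
          (by dsimp only; rw [hb]; exact minpoly.monic (IsIntegral.of_finite k _))
          (hi.associated_of_dvd (by dsimp only; rw [hb]; exact minpoly.irreducible (IsIntegral.of_finite k _)) h)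
      · rw [← minpoly.add_algebraMap]
        exact Algebra.IsSeparable.isSeparable k _
    · rw [hmin, natDegree_prod_of_monic _ _ fun i _ => hb i ▸ minpoly.monic (IsIntegral.of_finite k _),
        hrn _ hdim]
      simp [natDegree_comp, (Field.primitive_element_iff_minpoly_natDegree_eq k α).1 hα]

end Groth.Azum
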