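import Groth.Agent.Misc1.Azumaya.SplitData
import Groth.Agent.Misc1.Azumaya.FreeOverEtale
import Groth.Agent.Misc1.Azumaya.Regular
import Groth.Agent.Misc1.Azumaya.SeparableElement
import Mathlib.RingTheory.Polynomial.Resultant.Basic
/-! # Splitting data for an Azumaya algebra near a prime -/

universe u

open scoped TensorProduct
open Polynomial

namespace Groth.Azum

theorem exists_right_basis (K : Type u) [Field K] (V : Type u) [Ring V] [Algebra K V] [IsAzumaya K V]
    (r : ℕ) (hr : 0 < r) (hV : Module.finrank K V = r ^ 2) (x : V) (hsep : (minpoly K x).Separable)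
    (hdeg : (minpoly K x).natDegree = r) :
    ∃ β : Fin r → V, LinearIndependent K (fun ij : Fin r × Fin r => β ij.2 * x ^ (ij.1 : ℕ)) := by
  classical
  have hint : IsIntegral K x := IsIntegral.of_finite K x
  have hm : (minpoly K x).Monic := minpoly.monic hint
  have := hm.finite_adjoinRoot
  have := hm.free_adjoinRoot
  let E := AdjoinRoot (minpoly K x)
  have hE : Module.finrank K E = r :=
    (AdjoinRoot.powerBasis' hm).finrank.trans ((AdjoinRoot.powerBasis'_dim hm).trans hdeg)
  have : Nontrivial E := Module.nontrivial_of_finrank_pos (R := K) (hE ▸ hr)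
  have : Algebra.Etale K E := etale_adjoinRoot_of_coprime hm hsep
  let u : E →ₐ[K] V := Ideal.Quotient.liftₐ (Ideal.span {minpoly K x}) (aeval x) fun p hp => by
    obtain ⟨q, rfl⟩ := Ideal.mem_span_singleton'.1 hp
    rw [map_mul, minpoly.aeval, mul_zero]
  have hroot : u (AdjoinRoot.root (minpoly K x)) = x := aeval_X x
  have hinj : Function.Injective u := by
    rw [injective_iff_map_eq_zero]
    intro e he
    obtain ⟨g, rfl⟩ := AdjoinRoot.mk_surjective e
    exact AdjoinRoot.mk_eq_zero.mpr (minpoly.dvd K x he)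
  let act : E →+* AddMonoid.End V :=
    { toFun := fun e => AddMonoidHom.mulRight (u e)
      map_one' := AddMonoidHom.ext fun y => by
        change y * u 1 = y
        simp
      map_mul' := fun e e' => AddMonoidHom.ext fun y => by
        change y * u (e * e') = y * u e' * u e
        rw [mul_comm e, map_mul, mul_assoc]
      map_zero' := AddMonoidHom.ext fun y => by
        change y * u 0 = 0
        simp
      map_add' := fun e e' => AddMonoidHom.ext fun y => by
        change y * u (e + e') = y * u e + y * u e'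
        simp [mul_add] }
  let _ : Module E V := Module.compHom V act
  have hmod : ∀ (e : E) (y : V), e • y = y * u e := fun e y => rfl
  have := isScalarTower_right K u hmod
  have : Module.Free K (IsLocalRing.ResidueField K) := Module.Free.of_divisionRing K _
  have : Module.Flat K (IsLocalRing.ResidueField K) := Module.Flat.of_free
  obtain ⟨_, hfin, -⟩ := free_finrank_and_split u hmod hV hE
    (Module.Flat.lTensor_preserves_injective_linearMap u.toLinearMap hinj)
  have : Module.Finite E V := Module.Finite.of_restrictScalars_finite K E V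
  let β := Module.finBasisOfFinrankEq E V hfin
  let eb : Module.Basis (Fin r) K E := (AdjoinRoot.powerBasis' hm).basis.reindex
    (finCongr ((AdjoinRoot.powerBasis'_dim hm).trans hdeg))
  refine ⟨β, ?_⟩
  have h : ⇑(eb.smulTower β) = fun ij : Fin r × Fin r => β ij.2 * x ^ (ij.1 : ℕ) := by
    funext ij
    simp [eb, hmod, hroot]
  exact h ▸ (eb.smulTower β).linearIndependent

variable {R : Type u} [CommRing R] (A : Type u) [Ring A] [Algebra R A] [IsAzumaya R A] (p : Ideal R) [p.IsPrime]

theorem exists_fibre_data : ∃ (r : ℕ) (a : A) (b : Fin r → A), 1 ≤ r ∧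
    Module.finrank p.ResidueField (p.ResidueField ⊗[R] A) = r ^ 2 ∧
    (minpoly p.ResidueField ((1 : p.ResidueField) ⊗ₜ[R] a)).Separable ∧
    (minpoly p.ResidueField ((1 : p.ResidueField) ⊗ₜ[R] a)).natDegree = r ∧
    Function.Bijective (Fintype.linearCombination p.ResidueField
      (fun ij : Fin r × Fin r => (1 : p.ResidueField) ⊗ₜ[R] (b ij.2 * a ^ (ij.1 : ℕ)))) := by
  classical
  set K := p.ResidueField
  have := baseChange R A K
  have : Module.Finite K (K ⊗[R] A) := inferInstance
  obtain ⟨_, _⟩ := (isAzumaya_iff_field K (K ⊗[R] A)).1 inferInstance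
  obtain ⟨r, hr', hr⟩ := CSA.exists_finrank_eq_sq K (K ⊗[R] A)
  have hr0 : 0 < r := Nat.pos_of_ne_zero fun h => by
    have := Module.finrank_pos (R := K) (M := K ⊗[R] A)
    simp [hr, h] at this
  obtain ⟨x₀, hs₀, hd₀⟩ := exists_separable_element K (K ⊗[R] A) hr
  obtain ⟨s, hs, a, ha⟩ := exists_smul_eq_one_tmul p x₀
  set x := (1 : K) ⊗ₜ[R] a
  have hs' : algebraMap R K s ≠ 0 := mt Ideal.algebraMap_residueField_eq_zero.mp hs
  have hx : x = algebraMap R K s • x₀ := by rw [← ha, algebraMap_smul]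
  have hadj : Algebra.adjoin K ({x} : Set (K ⊗[R] A)) = Algebra.adjoin K {x₀} := by
    refine le_antisymm (Algebra.adjoin_le (Set.singleton_subset_iff.2 ?_))
      (Algebra.adjoin_le (Set.singleton_subset_iff.2 ?_))
    · rw [hx]
      exact Subalgebra.smul_mem _ (Algebra.self_mem_adjoin_singleton K x₀) _
    · have h := Subalgebra.smul_mem _ (Algebra.self_mem_adjoin_singleton K x) (algebraMap R K s)⁻¹
      have hx0 : (algebraMap R K s)⁻¹ • x = x₀ := by rw [hx, smul_smul, inv_mul_cancel₀ hs', one_smul]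
      exact hx0 ▸ h
  have hd : (minpoly K x).natDegree = r := by
    rw [← finrank_adjoin_singleton x inferInstance, hadj, finrank_adjoin_singleton x₀ inferInstance, hd₀]
  have hsep : (minpoly K x).Separable := by
    have := isSeparable_adjoin_singleton x₀ hs₀
    rw [← hadj] at this
    have h := Algebra.IsSeparable.isSeparable K
      (⟨x, Algebra.self_mem_adjoin_singleton K x⟩ : Algebra.adjoin K ({x} : Set (K ⊗[R] A)))
    rwa [IsSeparable, ← minpoly.algHom_eq (Algebra.adjoin K ({x} : Set (K ⊗[R] A))).val Subtype.val_injective] at h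
  obtain ⟨β, hβ⟩ := exists_right_basis K (K ⊗[R] A) r hr0 hr x hsep hd
  choose t ht b hb using fun j => exists_smul_eq_one_tmul p (β j)
  refine ⟨r, a, b, hr0, hr, hsep, hd, ?_⟩
  have hli : LinearIndependent K (fun ij : Fin r × Fin r => (1 : K) ⊗ₜ[R] (b ij.2 * a ^ (ij.1 : ℕ))) := by
    have h := hβ.units_smul (fun ij : Fin r × Fin r => Units.mk0 (algebraMap R K (t ij.2))
      (mt Ideal.algebraMap_residueField_eq_zero.mp (ht ij.2)))
    have e : (fun ij : Fin r × Fin r => Units.mk0 (algebraMap R K (t ij.2))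
        (mt Ideal.algebraMap_residueField_eq_zero.mp (ht ij.2))) • (fun ij : Fin r × Fin r => β ij.2 * x ^ (ij.1 : ℕ)) =
        fun ij : Fin r × Fin r => (1 : K) ⊗ₜ[R] (b ij.2 * a ^ (ij.1 : ℕ)) := by
      funext ij
      simp only [Pi.smul_apply', Units.smul_def, Units.val_mk0, x]
      rw [← smul_mul_assoc, algebraMap_smul, hb, Algebra.TensorProduct.tmul_pow,
        Algebra.TensorProduct.tmul_mul_tmul, one_pow, one_mul]
    exact e ▸ h
  have hinj := (linearIndependent_iff_injective_fintypeLinearCombination).1 hli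
  refine ⟨hinj, ?_⟩
  exact (LinearMap.injective_iff_surjective_of_finrank_eq_finrank
    (by rw [Module.finrank_fintype_fun_eq_card, Fintype.card_prod, Fintype.card_fin, hr, sq])).1 hinj

/-- The relation expressing `a ^ r` in lower powers of `a`, in denominator-free form. -/
theorem exists_relation {r : ℕ} (a : A)
    (hfr : Module.finrank p.ResidueField (p.ResidueField ⊗[R] A) = r ^ 2)
    (hsep : (minpoly p.ResidueField ((1 : p.ResidueField) ⊗ₜ[R] a)).Separable)
    (hd : (minpoly p.ResidueField ((1 : p.ResidueField) ⊗ₜ[R] a)).natDegree = r)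
    (S : A →ₗ[R] (Fin r → R)) :
    ∃ (d : Fin r → R) (t : R), t ∉ p ∧
      t • (LinearMap.det (S ∘ₗ Fintype.linearCombination R (fun i : Fin r => a ^ (i : ℕ))) • a ^ r
        - ∑ i, d i • a ^ (i : ℕ)) = 0 := by
  classical
  let Rp := Localization.AtPrime p
  let K := p.ResidueField
  have := baseChange R A Rp
  have : Module.Free Rp (Rp ⊗[R] A) := Module.free_of_flat_of_isLocalRing
  let e : K ⊗[Rp] (Rp ⊗[R] A) ≃ₐ[K] K ⊗[R] A := cancelEquiv R A Rp K
  let ξ : Rp ⊗[R] A := (1 : Rp) ⊗ₜ[R] a
  have heξ : e ((1 : K) ⊗ₜ[Rp] ξ) = (1 : K) ⊗ₜ[R] a := by simp [e, ξ, cancelEquiv]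
  have hA : Module.finrank Rp (Rp ⊗[R] A) = r ^ 2 := by
    rw [← Module.finrank_baseChange (R := K) (S := Rp) (M' := Rp ⊗[R] A), e.toLinearEquiv.finrank_eq, hfr]
  have := baseChange Rp (Rp ⊗[R] A) K
  have : Module.Finite K (K ⊗[Rp] (Rp ⊗[R] A)) := inferInstance
  have hne : Nontrivial (K ⊗[Rp] (Rp ⊗[R] A)) := by
    obtain ⟨_, _⟩ := (isAzumaya_iff_field K (K ⊗[Rp] (Rp ⊗[R] A))).1 inferInstance
    infer_instance
  have hmp : minpoly K ((1 : K) ⊗ₜ[Rp] ξ) = minpoly K ((1 : K) ⊗ₜ[R] a) := by
    exact (minpoly.algEquiv_eq e ((1 : K) ⊗ₜ[Rp] ξ)).symm.trans (congrArg (minpoly K) heξ)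
  obtain ⟨-, hmem⟩ := regular_section Rp (Rp ⊗[R] A) r hA ξ
    (isSeparable_adjoin_singleton _ (hmp ▸ hsep))
    ((finrank_adjoin_singleton _ hne).trans (by rw [hmp, hd]))
  obtain ⟨c, hc⟩ := (Submodule.mem_span_range_iff_exists_fun Rp).1 hmem
  set G := Fintype.linearCombination R (fun i : Fin r => a ^ (i : ℕ)) with hG
  set δ := LinearMap.det (S ∘ₗ G) with hδ
  let T : (Fin r → R) →ₗ[R] (Fin r → R) := Matrix.toLin' (LinearMap.toMatrix' (S ∘ₗ G)).adjugate
  have hT : T ∘ₗ (S ∘ₗ G) = δ • LinearMap.id := by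
    apply LinearMap.toMatrix'.injective
    rw [LinearMap.toMatrix'_comp, LinearMap.toMatrix'_toLin', Matrix.adjugate_mul, LinearMap.det_toMatrix']
    simp [hδ]
  have hpow : ∀ n : ℕ, (1 : Rp) ⊗ₜ[R] (a ^ n) = ξ ^ n := fun n =>
    map_pow (Algebra.TensorProduct.includeRight : A →ₐ[R] Rp ⊗[R] A) a n
  let y : Rp ⊗[R] (Fin r → R) := (TensorProduct.piScalarRight R Rp Rp (Fin r)).symm c
  have hy : G.lTensor Rp y = ξ ^ r := by
    rw [hG, lTensor_linearCombination]
    simp only [y, LinearEquiv.apply_symm_apply, Fintype.linearCombination_apply]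
    rw [← hc]
    exact Finset.sum_congr rfl fun i _ => congrArg (c i • ·) (hpow i)
  have hz : (TensorProduct.mk R Rp A 1) (δ • a ^ r - G (T (S (a ^ r)))) = 0 := by
    have h1 : ((1 : Rp) ⊗ₜ[R] G (T (S (a ^ r)))) = (G ∘ₗ T ∘ₗ S ∘ₗ G).lTensor Rp y := by
      simp only [LinearMap.lTensor_comp, LinearMap.comp_apply, hy]
      rw [← hpow]
      simp only [LinearMap.lTensor_tmul]
    rw [map_sub, TensorProduct.mk_apply, TensorProduct.mk_apply, h1, hT, LinearMap.comp_smul,
      LinearMap.comp_id, LinearMap.lTensor_smul, LinearMap.smul_apply, hy, TensorProduct.tmul_smul]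
    rw [hpow, sub_self]
  obtain ⟨t, ht⟩ := (IsLocalizedModule.eq_zero_iff p.primeCompl (TensorProduct.mk R Rp A 1)).1 hz
  refine ⟨T (S (a ^ r)), t, t.2, ?_⟩
  rw [hG, Fintype.linearCombination_apply] at ht
  exact ht

/-- Coprimality spreads out: a denominator for a Bézout relation between `G₀` and its derivative. -/
theorem exists_bezout {r : ℕ} (hr : 1 ≤ r) (G₀ : R[X]) (hdeg : G₀.natDegree ≤ r) (hlc : G₀.coeff r ∉ p)
    (hsep : (G₀.map (algebraMap R p.ResidueField)).Separable) :
    ∃ res : R, res ∉ p ∧ ∃ u v : R[X], G₀ * u + derivative G₀ * v = C res := by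
  have hd' : (derivative G₀).natDegree ≤ r - 1 := (natDegree_derivative_le G₀).trans (by omega)
  obtain ⟨u, v, -, -, huv⟩ := Polynomial.exists_mul_add_mul_eq_C_resultant (m := r) (n := r - 1) G₀ (derivative G₀)
    hdeg hd' (Or.inl (by omega))
  refine ⟨_, fun h => ?_, u, v, huv⟩
  have h0 := Ideal.algebraMap_residueField_eq_zero.mpr h
  set φ := algebraMap R p.ResidueField
  rw [← resultant_map_map, ← derivative_map] at h0
  set G₁ := G₀.map φ
  have hc : G₁.coeff r ≠ 0 := by
    rw [coeff_map]; exact mt Ideal.algebraMap_residueField_eq_zero.mp hlc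
  have hd1 : G₁.natDegree = r := natDegree_eq_of_le_of_coeff_ne_zero (natDegree_map_le.trans hdeg) hc
  have hk : (derivative G₁).natDegree ≤ r - 1 := (natDegree_derivative_le G₁).trans (by omega)
  obtain ⟨k, hk'⟩ := Nat.exists_eq_add_of_le hk
  rw [hk', resultant_add_right_deg _ _ _ _ k le_rfl] at h0
  rcases mul_eq_zero.1 h0 with h1 | h1
  · exact hc (eq_zero_of_pow_eq_zero h1)
  · subst hd1
    exact resultant_ne_zero G₁ _ hsep h1

end Groth.Azum
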