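import Groth.Agent.Misc1.Azumaya.Regular
import Groth.Agent.Misc1.Azumaya.SeparableElement
import Groth.Agent.S17979
import Mathlib.RingTheory.Etale.StandardEtale
/-! # Maximal étale subalgebras of Azumaya algebras over local rings -/

universe u v

open scoped TensorProduct
open Polynomial

namespace Groth.Azum

variable (R : Type u) [CommRing R] [IsLocalRing R] (A : Type u) [Ring A] [Algebra R A]

theorem lTensor_powers_injective (ξ : A) {r : ℕ}
    (hli : LinearIndependent (IsLocalRing.ResidueField R)
      (fun i : Fin r => ((1 : IsLocalRing.ResidueField R) ⊗ₜ[R] ξ) ^ (i : ℕ))) :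
    Function.Injective ((Fintype.linearCombination R (fun i : Fin r => ξ ^ (i : ℕ))).lTensor
      (IsLocalRing.ResidueField R)) := by
  set K := IsLocalRing.ResidueField R
  have hψ : ∀ z, (Fintype.linearCombination R (fun i : Fin r => ξ ^ (i : ℕ))).lTensor K z =
      Fintype.linearCombination K (fun i : Fin r => ((1 : K) ⊗ₜ[R] ξ) ^ (i : ℕ))
        (TensorProduct.piScalarRight R K K (Fin r) z) := fun z => by
    induction z using TensorProduct.induction_on with
    | zero => simp
    | tmul c v =>
      simp only [Fintype.linearCombination_apply, LinearMap.lTensor_tmul, TensorProduct.tmul_sum,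
        TensorProduct.piScalarRight_apply, TensorProduct.piScalarRightHom_tmul,
        Algebra.TensorProduct.tmul_pow, one_pow,
        TensorProduct.smul_tmul', smul_eq_mul, mul_one, ← TensorProduct.smul_tmul]
    | add a b ha hb => simp only [map_add, ha, hb]
  intro a b hab
  rw [hψ, hψ] at hab
  exact (TensorProduct.piScalarRight R K K (Fin r)).injective (hli.fintypeLinearCombination_injective hab)

theorem etale_adjoinRoot {F : R[X]} (hm : F.Monic)
    (hs : (F.map (IsLocalRing.residue R)).Separable) : Algebra.Etale R (AdjoinRoot F) := by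
  have hcop : IsCoprime F (derivative F) := Groth.Agent.S17979.result R F _ hm (by
    rw [← derivative_map]; exact hs)
  obtain ⟨a, b, hab⟩ := hcop
  let P : StandardEtalePair R :=
    { f := F, monic_f := hm, g := 1, cond := ⟨b, a, 0, by rw [pow_zero, ← hab]; ring⟩ }
  have hone : IsUnit (AdjoinRoot.mk P.f P.g) := by simp [P]
  exact Algebra.Etale.of_equiv (P.equivAwayAdjoinRoot.trans
    ((IsLocalization.atUnit (AdjoinRoot P.f) (Localization.Away (AdjoinRoot.mk P.f P.g)) _ hone).symm.restrictScalars R))

theorem exists_maximal_etale [IsAzumaya R A] (r : ℕ) (hA : Module.finrank R A = r ^ 2) :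
    ∃ (E : Type u) (_ : CommRing E) (_ : Algebra R E), Algebra.Etale R E ∧ Module.Finite R E ∧
      Module.Free R E ∧ Module.finrank R E = r ∧
      ∃ u : E →ₐ[R] A, Function.Injective (u.toLinearMap.lTensor (IsLocalRing.ResidueField R)) := by
  have : Module.Free R A := Module.free_of_flat_of_isLocalRing
  set K := IsLocalRing.ResidueField R
  have := baseChange R A K
  obtain ⟨_, _⟩ := (isAzumaya_iff_field K (K ⊗[R] A)).1 this
  have hB : Module.finrank K (K ⊗[R] A) = r ^ 2 := by rw [Module.finrank_baseChange, hA]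
  obtain ⟨x, hs, hd⟩ := exists_separable_element K (K ⊗[R] A) hB
  obtain ⟨ξ, rfl⟩ := TensorProduct.mk_surjective R A K IsLocalRing.residue_surjective x
  change (minpoly K ((1 : K) ⊗ₜ[R] ξ)).Separable at hs
  change (minpoly K ((1 : K) ⊗ₜ[R] ξ)).natDegree = r at hd
  have hrk := (finrank_adjoin_singleton ((1 : K) ⊗ₜ[R] ξ) inferInstance).trans hd
  have hsep := isSeparable_adjoin_singleton ((1 : K) ⊗ₜ[R] ξ) hs
  obtain ⟨-, hmem⟩ := regular_section R A r hA ξ hsep hrk
  obtain ⟨hli, -⟩ := powers_of_finrank_adjoin ((1 : K) ⊗ₜ[R] ξ) hrk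
  obtain ⟨c, hc⟩ := (Submodule.mem_span_range_iff_exists_fun R).1 hmem
  set G : R[X] := ∑ i : Fin r, C (c i) * X ^ (i : ℕ) with hG
  have hdeg : G.degree < (r : WithBot ℕ) := degree_sum_fin_lt c
  let F : R[X] := X ^ r - G
  have hm : F.Monic := monic_X_pow_sub hdeg
  have hFd : F.natDegree = r := by
    have h := degree_sub_eq_left_of_degree_lt (p := (X : R[X]) ^ r) (q := G) (by rwa [degree_X_pow])
    rw [degree_X_pow] at h
    exact natDegree_eq_of_degree_eq_some h
  have hF0 : aeval ξ F = 0 := by
    simp [F, hG, ← hc, map_sum, Algebra.smul_def]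
  have hFx : aeval ((1 : K) ⊗ₜ[R] ξ) (F.map (IsLocalRing.residue R)) = 0 := by
    have h : aeval ((Algebra.TensorProduct.includeRight : A →ₐ[R] K ⊗[R] A) ξ) F = 0 := by
      rw [aeval_algHom_apply, hF0, map_zero]
    rw [← h]
    exact (aeval_map_algebraMap K ((1 : K) ⊗ₜ[R] ξ) F)
  have hmap : F.map (IsLocalRing.residue R) = minpoly K ((1 : K) ⊗ₜ[R] ξ) :=
    eq_of_monic_of_dvd_of_natDegree_le (minpoly.monic (IsIntegral.of_finite K _)) (hm.map _)
      (minpoly.dvd K _ hFx) (by rw [hm.natDegree_map, hFd, hd])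
  have := hm.finite_adjoinRoot
  have := hm.free_adjoinRoot
  refine ⟨AdjoinRoot F, inferInstance, inferInstance, etale_adjoinRoot R hm (by rw [hmap]; exact hs),
    inferInstance, inferInstance, ?_, ?_⟩
  · exact (AdjoinRoot.powerBasis' hm).finrank.trans ((AdjoinRoot.powerBasis'_dim hm).trans hFd)
  let u : AdjoinRoot F →ₐ[R] A := Ideal.Quotient.liftₐ (Ideal.span {F}) (aeval ξ) fun p hp => by
    obtain ⟨q, rfl⟩ := Ideal.mem_span_singleton'.1 hp
    rw [map_mul, hF0, mul_zero]
  refine ⟨u, ?_⟩
  let e : (Fin r → R) ≃ₗ[R] AdjoinRoot F :=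
    (((AdjoinRoot.powerBasis' hm).basis.reindex
      (finCongr ((AdjoinRoot.powerBasis'_dim hm).trans hFd))).equivFun).symm
  have hcomp : u.toLinearMap ∘ₗ e.toLinearMap = Fintype.linearCombination R (fun i : Fin r => ξ ^ (i : ℕ)) := by
    refine LinearMap.ext fun v => ?_
    have hroot : u (AdjoinRoot.root F) = ξ := by
      change aeval ξ (X : R[X]) = ξ
      exact aeval_X ξ
    simp [e, Fintype.linearCombination_apply, Module.Basis.equivFun_symm_apply, hroot]
  have hinj := lTensor_powers_injective R A ξ hli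
  rw [← hcomp, LinearMap.lTensor_comp] at hinj
  exact (Function.Injective.of_comp_iff' _ (e.lTensor K).bijective).1 hinj

end Groth.Azum
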