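import Groth.Agent.Misc1.Azumaya.Basic
import Groth.Agent.Hensel1.Local
import Mathlib.LinearAlgebra.TensorProduct.Quotient
import Mathlib.LinearAlgebra.Matrix.Charpoly.LinearMap
import Mathlib.RingTheory.AdjoinRoot
import Mathlib.RingTheory.Idempotents
/-! # Lifting from the closed fibre of a finite algebra over a henselian local ring

* `Groth.Azum.exists_idempotent_lift_noncomm`: idempotents lift along `C → C / mC`, `C` finite, not nec. commutative.
* `Groth.Azum.bijective_of_factor`: bijectivity onto a projective module via the closed fibre.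
-/

universe u v w

open scoped TensorProduct
open Polynomial IsLocalRing

namespace Groth.Azum

theorem exists_idempotent_lift_noncomm {R : Type u} [CommRing R] [HenselianLocalRing R] {C : Type u} [Ring C]
    [Algebra R C] [Module.Finite R C] (c : C) (hc : c * c - c ∈ maximalIdeal R • (⊤ : Submodule R C)) :
    ∃ e : C, IsIdempotentElem e ∧ e - c ∈ maximalIdeal R • (⊤ : Submodule R C) := by
  nontriviality R
  set m := maximalIdeal R
  have hmul : ∀ (x y : C), x ∈ m • (⊤ : Submodule R C) → x * y ∈ m • (⊤ : Submodule R C) := fun x y hx =>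
    Submodule.smul_top_le_comap_smul_top m (LinearMap.mulRight R y) hx
  have hrange : LinearMap.range (LinearMap.mulLeft R (c * c - c)) ≤ m • ⊤ := by
    rintro _ ⟨y, rfl⟩
    exact hmul _ y hc
  obtain ⟨g, hgm, -, hgc, hg⟩ :=
    LinearMap.exists_monic_and_coeff_mem_pow_and_aeval_eq_zero_of_range_le_smul R _ m hrange
  have hgx : aeval (c * c - c) g = 0 := by
    have h1 : aeval ((Algebra.lmul R C) (c * c - c)) g = 0 := hg
    rw [aeval_algHom_apply] at h1
    simpa using LinearMap.congr_fun h1 1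
  let P : R[X] := g.comp (X ^ 2 - X)
  have hq : ((X : R[X]) ^ 2 - X).Monic := by monicity!
  have hqd : ((X : R[X]) ^ 2 - X).natDegree = 2 := by compute_degree!
  have hP : P.Monic := hgm.comp hq (by rw [hqd]; omega)
  have hPc : aeval c P = 0 := by
    rw [aeval_comp]
    simpa [sq] using hgx
  have := hP.finite_adjoinRoot
  let T := AdjoinRoot P
  let ψ : T →ₐ[R] C := Ideal.Quotient.liftₐ (Ideal.span {P}) (aeval c) fun p hp => by
    obtain ⟨q, rfl⟩ := Ideal.mem_span_singleton'.1 hp
    rw [map_mul, hPc, mul_zero]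
  let b : T := AdjoinRoot.root P
  have hψb : ψ b = c := aeval_X c
  set J : Ideal T := m.map (algebraMap R T) with hJ
  set x : T := b * b - b
  have hnil : IsNilpotent (Ideal.Quotient.mk J x) := by
    refine ⟨g.natDegree, ?_⟩
    rw [← map_pow, Ideal.Quotient.eq_zero_iff_mem]
    have h0 : aeval x g = 0 := by
      have h2 : aeval b P = 0 := AdjoinRoot.eval₂_root P
      rw [aeval_comp] at h2
      simpa [x, sq] using h2
    rw [aeval_eq_sum_range, Finset.sum_range_succ, hgm.coeff_natDegree, one_smul] at h0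
    rw [← neg_eq_of_add_eq_zero_right h0]
    refine J.neg_mem (sum_mem fun i hi => ?_)
    rw [Algebra.smul_def]
    refine J.mul_mem_right _ (Ideal.mem_map_of_mem _ ?_)
    exact Ideal.pow_le_self (by have := Finset.mem_range.1 hi; omega) (hgc i)
  let J' : Ideal T := J ⊔ Ideal.span {x}
  obtain ⟨ε, hε, hεb⟩ := exists_isIdempotentElem_eq_of_ker_isNilpotent
    (Ideal.Quotient.factor (le_sup_left : J ≤ J')) (fun y hy => by
      obtain ⟨y, rfl⟩ := Ideal.Quotient.mk_surjective y
      rw [RingHom.mem_ker, Ideal.Quotient.factor_mk, Ideal.Quotient.eq_zero_iff_mem] at hy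
      obtain ⟨j, hj, z, hz, rfl⟩ := Submodule.mem_sup.1 hy
      obtain ⟨z, rfl⟩ := Ideal.mem_span_singleton'.1 hz
      rw [map_add, Ideal.Quotient.eq_zero_iff_mem.2 hj, zero_add, map_mul]
      exact (Commute.all _ _).isNilpotent_mul_left hnil)
    (Ideal.Quotient.mk J' b) ⟨Ideal.Quotient.mk J b, Ideal.Quotient.factor_mk _ b⟩ (by
      rw [IsIdempotentElem, ← map_mul, Ideal.Quotient.eq]
      exact Ideal.mem_sup_right (Ideal.mem_span_singleton_self x))
  obtain ⟨t, rfl⟩ := Ideal.Quotient.mk_surjective ε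
  have htt : t * t - t ∈ J := by rw [← Ideal.Quotient.eq, map_mul]; exact hε
  obtain ⟨e, he, het⟩ := Groth.Hensel1.exists_idempotent_lift (I := m) t htt
  refine ⟨ψ e, he.map ψ, ?_⟩
  have heb : e - b ∈ J' := by
    have h1 : t - b ∈ J' := Ideal.Quotient.eq.1 hεb
    simpa using J'.add_mem (Ideal.mem_sup_left het) h1
  obtain ⟨j, hj, z, hz, hjz⟩ := Submodule.mem_sup.1 heb
  obtain ⟨z, rfl⟩ := Ideal.mem_span_singleton'.1 hz
  rw [← hψb, ← map_sub, ← hjz, map_add]
  refine add_mem ?_ ?_
  · have hj' : j ∈ m • (⊤ : Submodule R T) := by rwa [Ideal.smul_top_eq_map]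
    exact Submodule.smul_top_le_comap_smul_top m ψ.toLinearMap hj'
  · rw [mul_comm, map_mul]
    refine hmul _ _ ?_
    simpa [x, hψb] using hc

variable {R : Type u} [CommRing R] [IsLocalRing R]

theorem mem_smul_top_iff_one_tmul_eq_zero {M : Type v} [AddCommGroup M] [Module R M] (x : M) :
    x ∈ maximalIdeal R • (⊤ : Submodule R M) ↔ (1 : ResidueField R) ⊗ₜ[R] x = 0 := by
  rw [← Submodule.Quotient.mk_eq_zero,
    ← map_eq_zero_iff _ (TensorProduct.quotTensorEquivQuotSMul M (maximalIdeal R)).symm.injective,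
    TensorProduct.quotTensorEquivQuotSMul_symm_mk]
  exact Iff.rfl

theorem exists_one_tmul_eq {M : Type v} [AddCommGroup M] [Module R M] (z : ResidueField R ⊗[R] M) :
    ∃ x : M, (1 : ResidueField R) ⊗ₜ[R] x = z :=
  TensorProduct.mk_surjective R M (ResidueField R) residue_surjective z

/-- Bijectivity onto a projective module is checked on the closed fibre. -/
theorem bijective_of_factor {M : Type v} [AddCommGroup M] [Module R M] [Module.Finite R M]
    {N : Type w} [AddCommGroup N] [Module R N] [Module.Finite R N] [Module.Projective R N]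
    {V : Type*} [AddCommGroup V] [Module R V] (f : M →ₗ[R] N) (τ : M →ₗ[R] V) (σ : N →ₗ[R] V)
    (hcomp : σ ∘ₗ f = τ) (hτ : Function.Surjective τ)
    (hkerτ : LinearMap.ker τ ≤ maximalIdeal R • ⊤) (hkerσ : LinearMap.ker σ ≤ maximalIdeal R • ⊤) :
    Function.Bijective f := by
  set m := maximalIdeal R
  have hjac : m ≤ Ideal.jacobson (⊥ : Ideal R) := maximalIdeal_le_jacobson _
  have hsurj : Function.Surjective f := by
    rw [← LinearMap.range_eq_top, eq_top_iff]
    refine Submodule.le_of_le_smul_of_le_jacobson_bot Module.Finite.fg_top hjac fun n _ => ?_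
    obtain ⟨x, hx⟩ := hτ (σ n)
    refine Submodule.mem_sup.2 ⟨f x, ⟨x, rfl⟩, n - f x, hkerσ ?_, by abel⟩
    rw [LinearMap.mem_ker, map_sub, ← hx, ← hcomp, LinearMap.comp_apply, sub_self]
  refine ⟨?_, hsurj⟩
  obtain ⟨s, hs⟩ := Module.projective_lifting_property f LinearMap.id hsurj
  let ε : M →ₗ[R] M := LinearMap.id - s ∘ₗ f
  have hε : ∀ x, f x = 0 → ε x = x := fun x hx => by simp [ε, hx]
  have hfε : ∀ x, f (ε x) = 0 := fun x => by
    simp [ε, show f (s (f x)) = f x from LinearMap.congr_fun hs (f x)]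
  have hK : LinearMap.range ε ≤ m • LinearMap.range ε := by
    rintro _ ⟨x, rfl⟩
    have hx : ε x ∈ m • (⊤ : Submodule R M) :=
      hkerτ (by rw [LinearMap.mem_ker, ← hcomp, LinearMap.comp_apply, hfε, map_zero])
    have := Submodule.mem_map_of_mem (f := ε) hx
    rwa [Submodule.map_smul'', Submodule.map_top, hε _ (hfε x)] at this
  have hbot : LinearMap.range ε = ⊥ :=
    Submodule.eq_bot_of_le_smul_of_le_jacobson_bot m _ (Module.Finite.iff_fg.1 inferInstance) hK hjac
  rw [injective_iff_map_eq_zero]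
  intro x hx
  rw [← hε x hx]
  exact (Submodule.mem_bot R).1 (hbot ▸ ⟨x, rfl⟩)

end Groth.Azum
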