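import Groth.Agent.Misc1.Azumaya.Basic
import Mathlib.RingTheory.Flat.Basic
/-! # The map `L ⊗ A → End_L A` for a right module structure `l • a = a * ι l` -/

universe u v w

open scoped TensorProduct

namespace Groth.Azum

variable (k : Type u) [CommRing k] {A : Type v} [Ring A] [Algebra k A] {L : Type w} [CommRing L]
  [Algebra k L] (ι : L →ₐ[k] A) [Module L A]

theorem isScalarTower_right (hmod : ∀ (l : L) (a : A), l • a = a * ι l) : IsScalarTower k L A :=
  ⟨fun c l a => by rw [hmod, hmod, map_smul, mul_smul_comm]⟩

variable {k} [IsScalarTower k L A] (hmod : ∀ (l : L) (a : A), l • a = a * ι l)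

/-- Left multiplication is linear for the right `L`-module structure. -/
noncomputable def leftMul : A →ₐ[k] Module.End L A where
  toFun a := { toFun := fun y => a * y
               map_add' := fun _ _ => mul_add _ _ _
               map_smul' := fun l y => by simp only [hmod, RingHom.id_apply, mul_assoc] }
  map_one' := LinearMap.ext fun y => one_mul y
  map_mul' a b := LinearMap.ext fun y => mul_assoc a b y
  map_zero' := LinearMap.ext fun y => zero_mul y
  map_add' a b := LinearMap.ext fun y => add_mul a b y
  commutes' c := LinearMap.ext fun y => by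
    change algebraMap k A c * y = _
    rw [← Algebra.smul_def]
    rfl

/-- `l ⊗ a ↦ (y ↦ a * y * ι l)`. -/
noncomputable def rightHom : L ⊗[k] A →ₐ[L] Module.End L A :=
  Algebra.TensorProduct.lift (Algebra.ofId L (Module.End L A)) (leftMul ι hmod)
    fun l a => Algebra.commute_algebraMap_left l _

theorem rightHom_tmul (l : L) (a y : A) : rightHom ι hmod (l ⊗ₜ a) y = a * y * ι l := by
  simp [rightHom, leftMul, Algebra.ofId_apply, hmod]

/-- `l ⊗ a ↦ a ⊗ op (ι l)`. -/
noncomputable def toDouble : L ⊗[k] A →ₗ[k] A ⊗[k] Aᵐᵒᵖ :=
  (TensorProduct.comm k Aᵐᵒᵖ A).toLinearMap ∘ₗ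
    ((MulOpposite.opLinearEquiv k).toLinearMap ∘ₗ ι.toLinearMap).rTensor A

theorem rightHom_eq (x : L ⊗[k] A) (y : A) :
    rightHom ι hmod x y = AlgHom.mulLeftRight k A (toDouble ι x) y := by
  induction x using TensorProduct.induction_on with
  | zero => simp
  | tmul l a => rw [rightHom_tmul]; simp [toDouble]
  | add x z hx hz => simp only [map_add, LinearMap.add_apply, hx, hz]

theorem rightHom_injective (hinj : Function.Injective (toDouble ι))
    (hbij : Function.Injective (AlgHom.mulLeftRight k A)) : Function.Injective (rightHom ι hmod) := by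
  intro x z h
  refine hinj (hbij (LinearMap.ext fun y => ?_))
  rw [← rightHom_eq ι hmod, ← rightHom_eq ι hmod, h]

omit [Module L A] [IsScalarTower k L A] in
theorem toDouble_injective (hι : Function.Injective ι) [Module.Flat k A] :
    Function.Injective (toDouble ι) :=
  (TensorProduct.comm k Aᵐᵒᵖ A).injective.comp
    (Module.Flat.rTensor_preserves_injective_linearMap _ ((MulOpposite.opLinearEquiv k).injective.comp hι))

end Groth.Azum
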