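import Groth.Agent.Misc1.Azumaya.Basic
import Mathlib.LinearAlgebra.Charpoly.BaseChange
import Mathlib.RingTheory.Support
import Mathlib.LinearAlgebra.Determinant
/-! # Spreading out from the fibre at a prime -/

universe u v w

open scoped TensorProduct

namespace Groth.Azum

theorem lTensor_linearCombination {R : Type u} [CommRing R] {M : Type v} [AddCommGroup M] [Module R M]
    (K : Type w) [CommRing K] [Algebra R K] {ι : Type*} [Fintype ι] [DecidableEq ι] (m : ι → M) (z : K ⊗[R] (ι → R)) :
    (Fintype.linearCombination R m).lTensor K z =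
      Fintype.linearCombination K (fun i => (1 : K) ⊗ₜ[R] m i) (TensorProduct.piScalarRight R K K ι z) := by
  induction z using TensorProduct.induction_on with
  | zero => simp
  | tmul c v =>
    simp only [Fintype.linearCombination_apply, LinearMap.lTensor_tmul, TensorProduct.tmul_sum,
      TensorProduct.piScalarRight_apply, TensorProduct.piScalarRightHom_tmul,
      TensorProduct.smul_tmul', smul_eq_mul, mul_one, ← TensorProduct.smul_tmul]
  | add a b ha hb => simp only [map_add, ha, hb]

variable {R : Type u} [CommRing R] (p : Ideal R) [p.IsPrime]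

/-- Elements of a fibre are integral up to a denominator. -/
theorem exists_smul_eq_one_tmul {M : Type v} [AddCommGroup M] [Module R M] (z : p.ResidueField ⊗[R] M) :
    ∃ s : R, s ∉ p ∧ ∃ m : M, s • z = (1 : p.ResidueField) ⊗ₜ[R] m := by
  induction z using TensorProduct.induction_on with
  | zero => exact ⟨1, fun h => ‹p.IsPrime›.ne_top (p.eq_top_iff_one.mpr h), 0, by simp⟩
  | tmul c m =>
    obtain ⟨x, y, hy, rfl⟩ := IsFractionRing.div_surjective (R ⧸ p) c
    obtain ⟨a, rfl⟩ := Ideal.Quotient.mk_surjective x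
    obtain ⟨b, rfl⟩ := Ideal.Quotient.mk_surjective y
    have hb : b ∉ p := fun h => nonZeroDivisors.ne_zero hy (Ideal.Quotient.eq_zero_iff_mem.mpr h)
    refine ⟨b, hb, a • m, ?_⟩
    rw [← Ideal.Quotient.algebraMap_eq, ← IsScalarTower.algebraMap_apply, ← IsScalarTower.algebraMap_apply,
      TensorProduct.smul_tmul', Algebra.smul_def,
      mul_div_cancel₀ _ (mt (Ideal.algebraMap_residueField_eq_zero).mp hb), Algebra.algebraMap_eq_smul_one,
      TensorProduct.smul_tmul]
  | add x y hx hy =>
    obtain ⟨s, hs, m, hm⟩ := hx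
    obtain ⟨t, ht, n, hn⟩ := hy
    refine ⟨s * t, fun h => (‹p.IsPrime›.mem_or_mem h).elim hs ht, t • m + s • n, ?_⟩
    rw [smul_add, TensorProduct.tmul_add, TensorProduct.tmul_smul, TensorProduct.tmul_smul, mul_comm s,
      mul_smul, hm, mul_comm t, mul_smul, hn]

/-- A map from a finite free module which is injective on the fibre has a left inverse nearby. -/
theorem exists_det_notMem {A : Type v} [AddCommGroup A] [Module R A] [Module.Finite R A]
    [Module.Projective R A] {ι : Type} [Fintype ι] [DecidableEq ι] (G : (ι → R) →ₗ[R] A)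
    (hG : Function.Injective (G.lTensor p.ResidueField)) :
    ∃ S : A →ₗ[R] (ι → R), LinearMap.det (S ∘ₗ G) ∉ p := by
  let K := p.ResidueField
  obtain ⟨σ, hσ⟩ := LinearMap.exists_leftInverse_of_injective (G.baseChange K) (LinearMap.ker_eq_bot.mpr hG)
  obtain ⟨z, hz⟩ := (tensorProduct_bijective R K A (ι → R)).2 σ
  obtain ⟨s, hs, S, hS⟩ := exists_smul_eq_one_tmul p z
  refine ⟨S, fun hdet => ?_⟩
  have hSσ : S.baseChange K = s • σ := by
    rw [← hz, ← LinearMap.map_smul_of_tower, hS]
    simp [LinearMap.tensorProduct]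
  have h1 : LinearMap.det ((S ∘ₗ G).baseChange K) = (algebraMap R K s) ^ Module.finrank K (K ⊗[R] (ι → R)) := by
    rw [LinearMap.baseChange_comp, hSσ, LinearMap.smul_comp, hσ, ← algebraMap_smul K s, LinearMap.det_smul,
      LinearMap.det_id, mul_one]
  rw [LinearMap.det_baseChange, Ideal.algebraMap_residueField_eq_zero.mpr hdet] at h1
  exact mt (Ideal.algebraMap_residueField_eq_zero).mp hs (eq_zero_of_pow_eq_zero h1.symm)

/-- A map which is surjective on the fibre is surjective nearby. -/
theorem exists_notMem_surjective {M : Type v} [AddCommGroup M] [Module R M] {N : Type w} [AddCommGroup N]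
    [Module R N] [Module.Finite R N] (f : M →ₗ[R] N) (hf : Function.Surjective (f.lTensor p.ResidueField)) :
    ∃ g : R, g ∉ p ∧ ∀ n : N, g • n ∈ LinearMap.range f := by
  have hns : (⟨p, inferInstance⟩ : PrimeSpectrum R) ∉ Module.support R (N ⧸ LinearMap.range f) := by
    rw [Module.mem_support_iff_nontrivial_residueField_tensorProduct, not_nontrivial_iff_subsingleton]
    refine subsingleton_of_forall_eq 0 fun z => ?_
    obtain ⟨w, rfl⟩ := LinearMap.lTensor_surjective p.ResidueField (Submodule.mkQ_surjective _) z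
    obtain ⟨m, rfl⟩ := hf w
    rw [← LinearMap.comp_apply, ← LinearMap.lTensor_comp]
    simp [LinearMap.range_mkQ_comp]
  rw [Module.support_eq_zeroLocus, PrimeSpectrum.mem_zeroLocus, Set.not_subset] at hns
  obtain ⟨g, hg, hgp⟩ := hns
  exact ⟨g, hgp, fun n => (Submodule.Quotient.mk_eq_zero _).mp
    ((Submodule.Quotient.mk_smul _ g n).trans (Module.mem_annihilator.mp hg (Submodule.Quotient.mk n)))⟩

theorem bijective_lTensor_of_det {A : Type v} [AddCommGroup A] [Module R A] {ι : Type} [Fintype ι] [DecidableEq ι]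
    {G : (ι → R) →ₗ[R] A} {S : A →ₗ[R] (ι → R)} {g : R} (hg : ∀ a : A, g • a ∈ LinearMap.range G)
    (B : Type w) [CommRing B] [Algebra R B] (hgB : IsUnit (algebraMap R B g))
    (hdet : IsUnit (algebraMap R B (LinearMap.det (S ∘ₗ G)))) :
    Function.Bijective (G.baseChange B) := by
  refine ⟨?_, fun z => ?_⟩
  · have h : IsUnit (LinearMap.det ((S ∘ₗ G).baseChange B)) := by rwa [LinearMap.det_baseChange]
    have hb := ((Module.End.isUnit_iff _).mp ((LinearMap.isUnit_iff_isUnit_det _).mpr h)).1
    rw [LinearMap.baseChange_comp] at hb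
    exact Function.Injective.of_comp hb
  · induction z using TensorProduct.induction_on with
    | zero => exact ⟨0, map_zero _⟩
    | tmul b a =>
      obtain ⟨v, hv⟩ := hg a
      refine ⟨((hgB.unit⁻¹ : Bˣ) * b) ⊗ₜ v, ?_⟩
      rw [LinearMap.baseChange_tmul, hv, TensorProduct.tmul_smul, TensorProduct.smul_tmul', Algebra.smul_def,
        ← mul_assoc, IsUnit.mul_val_inv, one_mul]
    | add x y hx hy =>
      obtain ⟨a, ha⟩ := hx
      obtain ⟨b, hb⟩ := hy
      exact ⟨a + b, by rw [map_add, ha, hb]⟩

end Groth.Azum
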