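import Groth.Agent.Misc1.Azumaya.RightModule
import Groth.Agent.Misc1.Azumaya.Spread
import Mathlib.RingTheory.Etale.StandardEtale
import Mathlib.RingTheory.Flat.FaithfullyFlat.Basic
import Mathlib.LinearAlgebra.Matrix.ToLin
/-! # Splitting an Azumaya algebra from explicit data -/

universe u

open scoped TensorProduct
open Polynomial

namespace Groth.Azum

theorem etale_adjoinRoot_of_coprime {B : Type u} [CommRing B] {F : B[X]} (hm : F.Monic)
    (hcop : IsCoprime F (derivative F)) : Algebra.Etale B (AdjoinRoot F) := by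
  obtain ⟨a, b, hab⟩ := hcop
  let P : StandardEtalePair B :=
    { f := F, monic_f := hm, g := 1, cond := ⟨b, a, 0, by rw [pow_zero, ← hab]; ring⟩ }
  have hone : IsUnit (AdjoinRoot.mk P.f P.g) := by simp [P]
  exact Algebra.Etale.of_equiv (P.equivAwayAdjoinRoot.trans
    ((IsLocalization.atUnit (AdjoinRoot P.f) (Localization.Away (AdjoinRoot.mk P.f P.g)) _ hone).symm.restrictScalars B))

theorem split_of_data (B : Type u) [CommRing B] [Nontrivial B] (A : Type u) [Ring A] [Algebra B A] [IsAzumaya B A]
    (r : ℕ) (hr : 0 < r) (F : B[X]) (hm : F.Monic) (hd : F.natDegree = r)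
    (hcop : IsCoprime F (derivative F)) (a : A) (hF : aeval a F = 0) (b : Fin r → A)
    (hb : Function.Bijective (Fintype.linearCombination B (fun ij : Fin r × Fin r => b ij.2 * a ^ (ij.1 : ℕ))))
    (S : A →ₗ[B] (Fin r → B))
    (hS : IsUnit (LinearMap.det (S ∘ₗ Fintype.linearCombination B (fun i : Fin r => a ^ (i : ℕ))))) :
    Module.Finite B (AdjoinRoot F) ∧ Algebra.Etale B (AdjoinRoot F) ∧ Module.FaithfullyFlat B (AdjoinRoot F) ∧
      Nonempty ((AdjoinRoot F ⊗[B] A) ≃ₐ[AdjoinRoot F] Matrix (Fin r) (Fin r) (AdjoinRoot F)) := by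
  classical
  have := hm.finite_adjoinRoot
  have := hm.free_adjoinRoot
  have : Nontrivial (AdjoinRoot F) := by
    have h1 : Module.finrank B (AdjoinRoot F) = r :=
      (AdjoinRoot.powerBasis' hm).finrank.trans ((AdjoinRoot.powerBasis'_dim hm).trans hd)
    exact Module.nontrivial_of_finrank_pos (R := B) (h1 ▸ hr)
  refine ⟨inferInstance, etale_adjoinRoot_of_coprime hm hcop, inferInstance, ?_⟩
  let u : AdjoinRoot F →ₐ[B] A := Ideal.Quotient.liftₐ (Ideal.span {F}) (aeval a) fun p hp => by
    obtain ⟨q, rfl⟩ := Ideal.mem_span_singleton'.1 hp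
    rw [map_mul, hF, mul_zero]
  have hroot : u (AdjoinRoot.root F) = a := by
    change aeval a (X : B[X]) = a
    exact aeval_X a
  let act : AdjoinRoot F →+* AddMonoid.End A :=
    { toFun := fun e => AddMonoidHom.mulRight (u e)
      map_one' := AddMonoidHom.ext fun x => by
        change x * u 1 = x
        simp
      map_mul' := fun e e' => AddMonoidHom.ext fun x => by
        change x * u (e * e') = x * u e' * u e
        rw [mul_comm e, map_mul, mul_assoc]
      map_zero' := AddMonoidHom.ext fun x => by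
        change x * u 0 = 0
        simp
      map_add' := fun e e' => AddMonoidHom.ext fun x => by
        change x * u (e + e') = x * u e + x * u e'
        simp [mul_add] }
  let _ : Module (AdjoinRoot F) A := Module.compHom A act
  have hmod : ∀ (e : AdjoinRoot F) (x : A), e • x = x * u e := fun e x => rfl
  have := isScalarTower_right B u hmod
  -- `A` is free over `AdjoinRoot F` on `b`
  let eb : Module.Basis (Fin r) B (AdjoinRoot F) := (AdjoinRoot.powerBasis' hm).basis.reindex
    (finCongr ((AdjoinRoot.powerBasis'_dim hm).trans hd))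
  have heb : ∀ i, u (eb i) = a ^ (i : ℕ) := fun i => by simp [eb, hroot]
  let Ψ : (Fin r → AdjoinRoot F) →ₗ[AdjoinRoot F] A := Fintype.linearCombination (AdjoinRoot F) b
  let κ : (Fin r → AdjoinRoot F) ≃ₗ[B] (Fin r × Fin r → B) :=
    LinearEquiv.piCongrRight (fun _ => eb.equivFun) ≪≫ₗ
      (LinearEquiv.curry B B (Fin r) (Fin r)).symm ≪≫ₗ LinearEquiv.funCongrLeft B B (Equiv.prodComm (Fin r) (Fin r))
  have hΨ : ∀ e, Ψ e = Fintype.linearCombination B (fun ij : Fin r × Fin r => b ij.2 * a ^ (ij.1 : ℕ)) (κ e) := by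
    intro e
    rw [Fintype.linearCombination_apply, Fintype.linearCombination_apply, Fintype.sum_prod_type, Finset.sum_comm]
    refine Finset.sum_congr rfl fun j _ => ?_
    rw [hmod]
    conv_lhs => rw [← eb.sum_equivFun (e j), map_sum, Finset.mul_sum]
    refine Finset.sum_congr rfl fun i _ => ?_
    rw [map_smul, heb, mul_smul_comm]
    rfl
  have hΨb : Function.Bijective Ψ := by
    have : ⇑Ψ = ⇑(Fintype.linearCombination B (fun ij : Fin r × Fin r => b ij.2 * a ^ (ij.1 : ℕ))) ∘ ⇑κ :=
      funext hΨ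
    rw [this]
    exact hb.comp κ.bijective
  let bE : Module.Basis (Fin r) (AdjoinRoot F) A := Module.Basis.ofEquivFun (LinearEquiv.ofBijective Ψ hΨb).symm
  have : Module.Free (AdjoinRoot F) A := Module.Free.of_basis bE
  have : Module.Finite (AdjoinRoot F) A := Module.Finite.of_basis bE
  -- a retraction of `u`
  let G := Fintype.linearCombination B (fun i : Fin r => a ^ (i : ℕ))
  have hG : G = u.toLinearMap ∘ₗ eb.equivFun.symm.toLinearMap := by
    refine LinearMap.ext fun v => ?_
    simp [G, Fintype.linearCombination_apply, Module.Basis.equivFun_symm_apply, heb]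
  obtain ⟨T, hT⟩ : ∃ T : (Fin r → B) →ₗ[B] (Fin r → B), T ∘ₗ (S ∘ₗ G) = LinearMap.id := by
    obtain ⟨v, hv⟩ := (LinearMap.isUnit_iff_isUnit_det _).mpr hS
    exact ⟨(v⁻¹ : (Module.End B (Fin r → B))ˣ), by rw [← hv]; exact Units.inv_mul v⟩
  let s : A →ₗ[B] AdjoinRoot F := eb.equivFun.symm.toLinearMap ∘ₗ T ∘ₗ S
  have hs : ∀ e, s (u e) = e := fun e => by
    obtain ⟨v, rfl⟩ := eb.equivFun.symm.surjective e
    have h1 := LinearMap.congr_fun hT v
    rw [hG] at h1
    simp only [LinearMap.comp_apply, LinearMap.id_apply, LinearEquiv.coe_toLinearMap, AlgHom.toLinearMap_apply] at h1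
    simp only [s, LinearMap.comp_apply, LinearEquiv.coe_toLinearMap, h1]
  -- the retraction of `rightHom`
  let mlr := LinearEquiv.ofBijective (AlgHom.mulLeftRight B A).toLinearMap (IsAzumaya.AlgHom.mulLeftRight_bij B A)
  let ρ : Module.End (AdjoinRoot F) A →ₗ[B] AdjoinRoot F ⊗[B] A :=
    (s ∘ₗ (MulOpposite.opLinearEquiv B (M := A)).symm.toLinearMap).rTensor A ∘ₗ
      (TensorProduct.comm B A Aᵐᵒᵖ).toLinearMap ∘ₗ mlr.symm.toLinearMap ∘ₗ
      LinearMap.restrictScalarsₗ B (AdjoinRoot F) A A B
  have hρ : ∀ x, ρ (rightHom u hmod x) = x := fun x => by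
    have h1 : mlr.symm ((rightHom u hmod x).restrictScalars B) = toDouble u x := by
      rw [LinearEquiv.symm_apply_eq]
      exact LinearMap.ext fun y => rightHom_eq u hmod x y
    change ((s ∘ₗ (MulOpposite.opLinearEquiv B (M := A)).symm.toLinearMap).rTensor A)
      ((TensorProduct.comm B A Aᵐᵒᵖ) (mlr.symm ((rightHom u hmod x).restrictScalars B))) = x
    rw [h1]
    clear h1
    induction x using TensorProduct.induction_on with
    | zero => simp
    | tmul e y => simp [toDouble, hs]
    | add x y hx hy => simp only [map_add, hx, hy]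
  have hfr : Module.finrank (AdjoinRoot F) (AdjoinRoot F ⊗[B] A) = r * r := by
    have : Module.Free B A := Module.Free.of_equiv (LinearEquiv.ofBijective _ hb)
    rw [Module.finrank_baseChange, ← (LinearEquiv.ofBijective _ hb).finrank_eq]
    simp
  have : Module.Free B A := Module.Free.of_equiv (LinearEquiv.ofBijective _ hb)
  have hfr' : Module.finrank (AdjoinRoot F) (Module.End (AdjoinRoot F) A) = r * r := by
    rw [show Module.finrank (AdjoinRoot F) (Module.End (AdjoinRoot F) A) =
      Module.finrank (AdjoinRoot F) A * Module.finrank (AdjoinRoot F) A from Module.finrank_linearMap _ _ _ _,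
      Module.finrank_eq_card_basis bE, Fintype.card_fin]
  have : Module.Free (AdjoinRoot F) (Module.End (AdjoinRoot F) A) := Module.Free.of_equiv (algEquivMatrix bE).symm.toLinearEquiv
  have : Module.Finite (AdjoinRoot F) (Module.End (AdjoinRoot F) A) := Module.Finite.equiv (algEquivMatrix bE).symm.toLinearEquiv
  let θ := LinearEquiv.ofFinrankEq (R := AdjoinRoot F) (AdjoinRoot F ⊗[B] A) (Module.End (AdjoinRoot F) A)
    (hfr.trans hfr'.symm)
  have hρi : Function.Injective ρ := by
    have hsur : Function.Surjective (ρ ∘ₗ (θ.restrictScalars B).toLinearMap) :=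
      (show Function.Surjective ρ from fun x => ⟨_, hρ x⟩).comp θ.surjective
    exact Function.Injective.of_comp_right (OrzechProperty.injective_of_surjective_endomorphism _ hsur) θ.surjective
  have hψ : Function.Bijective (rightHom u hmod) := by
    refine ⟨fun x y hxy => ?_, fun φ => ⟨ρ φ, hρi (hρ _)⟩⟩
    rw [← hρ x, hxy, hρ]
  exact ⟨(AlgEquiv.ofBijective _ hψ).trans (algEquivMatrix bE)⟩

end Groth.Azum
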